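import Cfsg.Agent.Lib.CyclicZ.Parity
import Cfsg.Agent.Lib.PGroup.FrattiniStab

/-!
# Conjugate central elements coincide

With a sign which is nontrivial on `a`, an element of odd order normalising the Sylow subgroup fixes a
maximal subgroup, so acts trivially; hence central elements of the Sylow subgroup are conjugate only if
equal.
-/

set_option autoImplicit false
set_option linter.unusedSectionVars false
set_option linter.style.haveILetI false

namespace Cfsg.Lib.CyclicZ

open Subgroup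

variable {G : Type*} [Group G] [Finite G] {a u : G} {α β : ℕ}

/-- An element of odd order normalising the Sylow subgroup centralises it. -/
theorem odd_centralizes (T : Sylow 2 G) (f : Fac (T : Subgroup G) a u (α + 1) (β + 1)) (χ : G →* ℤˣ)
    (hχ : χ a = -1) {n : G} (hn : n ∈ normalizer ((T : Subgroup G) : Set G)) (hodd : Odd (orderOf n))
    {x : G} (hx : x ∈ (T : Subgroup G)) : n * x * n⁻¹ = x := by
  haveI : Fact (Nat.Prime 2) := ⟨Nat.prime_two⟩
  set φ : MulAut (T : Subgroup G) := (T : Subgroup G).normalizerMonoidHom ⟨n, hn⟩ with hφ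
  have hval : ∀ z : (T : Subgroup G), ((φ z : (T : Subgroup G)) : G) = n * z * n⁻¹ := fun z => rfl
  have hχφ : ∀ z : (T : Subgroup G), χ (φ z : (T : Subgroup G)) = χ z := fun z => by
    rw [hval, map_mul, map_mul, map_inv, mul_right_comm, mul_inv_cancel, one_mul]
  -- the Frattini product lies in the Frattini subgroup
  have hle : ∀ z : (T : Subgroup G), (z : G) ∈ closure {a ^ 2, u ^ 2} → z ∈ frattini (T : Subgroup G) := by
    intro z hz
    refine (mem_map_iff_mem (T : Subgroup G).subtype_injective).1 ((closure_le _).2 ?_ hz)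
    rintro w (rfl | rfl)
    · exact ⟨⟨a, f.left⟩ ^ 2, PGroup.pow_mem_frattini T.2 _, by simp⟩
    · exact ⟨⟨u, f.right⟩ ^ 2, PGroup.pow_mem_frattini T.2 _, by simp⟩
  have hclass : ∀ d : (T : Subgroup G), χ d = 1 → d ∉ frattini (T : Subgroup G) →
      ∀ e : (T : Subgroup G), χ e = 1 → e ∉ frattini (T : Subgroup G) →
        ((d⁻¹ * e : (T : Subgroup G)) : G) ∈ closure {a ^ 2, u ^ 2} := by
    intro d hd hd' e he he'
    obtain ⟨x, y, hxy⟩ := f.gen d d.2
    obtain ⟨x', y', hxy'⟩ := f.gen e e.2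
    have h1 : ¬ (Even x ∧ Even y) := fun h => hd' (hle d (by rw [hxy]; exact f.even_iff.2 h))
    have h2 : ¬ (Even x' ∧ Even y') := fun h => he' (hle e (by rw [hxy']; exact f.even_iff.2 h))
    rw [hxy, map_mul, map_pow, map_pow, hχ] at hd
    rw [hxy', map_mul, map_pow, map_pow, hχ] at he
    rw [Subgroup.coe_mul, Subgroup.coe_inv, hxy, hxy']
    have key : ∀ p q : ℕ, (-1 : ℤˣ) ^ p * (-1) ^ q = 1 → Even (p + q) := fun p q h => by
      rw [← pow_add] at h
      rcases Nat.even_or_odd (p + q) with e | e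
      · exact e
      · rw [e.neg_one_pow] at h; exact absurd h (by decide)
    rcases Int.units_eq_one_or (χ u) with hu | hu
    · rw [hu] at hd he
      have e1 := key x 0 (by simpa using hd)
      have e2 := key x' 0 (by simpa using he)
      rw [Nat.even_iff] at e1 e2 h1 h2
      rw [Nat.even_iff] at h1 h2
      exact f.same_class (by omega) (by omega)
    · rw [hu] at hd he
      have e1 := key x y hd
      have e2 := key x' y' he
      rw [Nat.even_iff] at e1 e2 h1 h2
      rw [Nat.even_iff] at h1 h2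
      exact f.same_class (by omega) (by omega)
  have hsq : φ ^ 2 ∈ PGroup.frattiniStab (T : Subgroup G) := by
    intro z
    set d := z⁻¹ * φ z
    have hd : χ d = 1 := by
      rw [Subgroup.coe_mul, Subgroup.coe_inv, map_mul, map_inv, hχφ, inv_mul_cancel]
    have e : z⁻¹ * (φ ^ 2) z = d * φ d := by
      rw [pow_two, MulAut.mul_apply, map_mul, map_inv]; simp only [d]; group
    rw [e]
    by_cases hdf : d ∈ frattini (T : Subgroup G)
    · exact mul_mem hdf (PGroup.apply_mem_frattini φ hdf)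
    · have hdf' : φ d ∉ frattini (T : Subgroup G) := fun h => hdf (by
        simpa using PGroup.apply_mem_frattini φ⁻¹ h)
      rw [show d * φ d = d ^ 2 * (d⁻¹ * φ d) by rw [pow_two]; group]
      exact mul_mem (PGroup.pow_mem_frattini T.2 d)
        (hle _ (hclass d hd hdf (φ d) ((hχφ d).trans hd) hdf'))
  have hφo : Odd (orderOf φ) := hodd.of_dvd_nat (by
    rw [← Subgroup.orderOf_mk n hn]; exact orderOf_map_dvd _ _)
  have h2 : φ ^ 2 = 1 := by
    obtain ⟨k, hk⟩ := IsPGroup.iff_orderOf.1 (PGroup.isPGroup_frattiniStab T.2) ⟨φ ^ 2, hsq⟩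
    rw [Subgroup.orderOf_mk] at hk
    refine orderOf_eq_one_iff.1 (Nat.eq_one_of_dvd_coprimes
      ((Nat.coprime_two_left.2 hφo).pow_left k) (dvd_of_eq hk) (orderOf_pow_dvd 2))
  have h1 : φ = 1 := orderOf_eq_one_iff.1 (Nat.eq_one_of_dvd_coprimes (Nat.coprime_two_left.2 hφo)
    (orderOf_dvd_of_pow_eq_one h2) dvd_rfl)
  have h := hval ⟨x, hx⟩
  rw [h1] at h
  exact h.symm

/-- Conjugate central elements of the Sylow subgroup are equal. -/
theorem conj_central_eq (T : Sylow 2 G) (f : Fac (T : Subgroup G) a u (α + 1) (β + 1)) (χ : G →* ℤˣ)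
    (hχ : χ a = -1) {x g : G} (hxT : x ∈ (T : Subgroup G)) (hx : ∀ z ∈ (T : Subgroup G), Commute z x)
    (hy : ∀ z ∈ (T : Subgroup G), Commute z (g * x * g⁻¹)) : g * x * g⁻¹ = x := by
  haveI : Fact (Nat.Prime 2) := ⟨Nat.prime_two⟩
  obtain ⟨n, hn, he⟩ := T.conj_eq_normalizer_conj_of_mem_centralizer x g⁻¹
    (mem_centralizer_iff.2 fun z hz => hx z hz) (mem_centralizer_iff.2 fun z hz => by
      rw [inv_inv]; exact hy z hz)
  rw [inv_inv] at he
  rw [he]
  obtain ⟨k, m, hm, hkm⟩ := Nat.exists_eq_two_pow_mul_odd (orderOf_pos n).ne'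
  have ho1 : orderOf (n ^ 2 ^ k) = m := by
    rw [orderOf_pow_of_dvd (pow_ne_zero _ two_ne_zero) (hkm ▸ dvd_mul_right _ _), hkm,
      Nat.mul_div_cancel_left _ (pow_pos two_pos k)]
  have hc1 : Commute (n ^ 2 ^ k) x :=
    mul_inv_eq_iff_eq_mul.1 (odd_centralizes T f χ hχ (pow_mem hn _) (ho1.symm ▸ hm) hxT)
  have hc2 : Commute (n ^ m) x := by
    refine hx _ ?_
    have hp : IsPGroup 2 (zpowers (n ^ m)) := IsPGroup.of_card (n := k) (by
      rw [Nat.card_zpowers, orderOf_pow_of_dvd hm.pos.ne' (hkm ▸ dvd_mul_left _ _), hkm,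
        Nat.mul_div_cancel _ hm.pos])
    exact ((hp.inf_normalizer_sylow T).le ⟨mem_zpowers _, pow_mem hn m⟩).2
  have hc : Commute n x := by
    have hg := Nat.gcd_eq_gcd_ab (2 ^ k) m
    rw [((Nat.coprime_two_left.2 hm).pow_left k : Nat.gcd (2 ^ k) m = 1), Nat.cast_one] at hg
    rw [← zpow_one n, hg, zpow_add, _root_.zpow_mul, _root_.zpow_mul, zpow_natCast, zpow_natCast]
    exact (hc1.zpow_left _).mul_left (hc2.zpow_left _)
  rw [mul_assoc, ← hc.eq, inv_mul_cancel_left]

end Cfsg.Lib.CyclicZ
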