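import Cfsg.Agent.Lib.CyclicZ.Fusion

/-!
# The Sylow subgroup is dihedral

A product of two nontrivial cyclic 2-groups with nonconjugate involutions as a Sylow subgroup is dihedral,
unless there is an isolated involution.
-/

set_option autoImplicit false
set_option linter.unusedSectionVars false

namespace Cfsg.Lib.CyclicZ

open Subgroup

variable {G : Type*} [Group G] [Finite G] {a u : G} {α β : ℕ}

/-- Dihedral Sylow subgroups or an isolated involution. -/
theorem cycDih_or_isolated (T : Sylow 2 G) (f : Fac (T : Subgroup G) a u (α + 1) (β + 1))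
    (hnc : ∀ g, g * a ^ 2 ^ α * g⁻¹ ≠ u ^ 2 ^ β) :
    GW.CycDih (T : Subgroup G) ∨ ∃ z : G, IsIsolatedInvolution z := by
  rcases α with _ | α
  · exact one_case T f (fun g => by simpa using hnc g)
  rcases β with _ | β
  · exact one_case T f.symm (fun g h => hnc g⁻¹ (by rw [← h]; simp [mul_assoc]))
  · exact Or.inr (two_case T f hnc)

end Cfsg.Lib.CyclicZ
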