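import Cfsg.Agent.Lib.CyclicZ.Inner
import Cfsg.Agent.Lib.GW.CycDih
import Cfsg.Agent.Lib.Invol.Isolated
import Cfsg.Agent.Lib.Invol.SylowTools

/-!
# A factor of order two

If one factor has order two, the Sylow subgroup is dihedral or there is an isolated involution.
-/

set_option autoImplicit false
set_option linter.unusedSectionVars false
set_option linter.style.haveILetI false

namespace Cfsg.Lib.CyclicZ

open Subgroup

variable {G : Type*} [Group G] [Finite G] {a u : G} {α β : ℕ}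

/-- A conjugacy onto a central element can be chosen to move the centralizer into the Sylow subgroup. -/
theorem exists_conj_centralizer (T : Sylow 2 G) {s y : G} (hy : y ∈ (T : Subgroup G))
    (hyc : ∀ z ∈ (T : Subgroup G), Commute z y) {g : G} (hg : g * s * g⁻¹ = y) :
    ∃ h : G, h * s * h⁻¹ = y ∧ ∀ v ∈ (T : Subgroup G), Commute v s → h * v * h⁻¹ ∈ (T : Subgroup G) := by
  haveI : Fact (Nat.Prime 2) := ⟨Nat.prime_two⟩
  let K : Subgroup G := ((T : Subgroup G) ⊓ centralizer {s}).map (MulAut.conj g).toMonoidHom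
  obtain ⟨c, hc, R, hR, hTR, hmem⟩ := Invol.exists_common_pGroup (centralizer ({y} : Set G))
    (K := (T : Subgroup G)) (L := K)
    (fun z hz => mem_centralizer_singleton_iff.2 (hyc z hz).eq) (by
      rintro _ ⟨v, ⟨-, hv⟩, rfl⟩
      replace hv := mem_centralizer_singleton_iff.1 hv
      rw [mem_centralizer_singleton_iff, ← hg]
      show g * v * g⁻¹ * (g * s * g⁻¹) = g * s * g⁻¹ * (g * v * g⁻¹)
      rw [show g * v * g⁻¹ * (g * s * g⁻¹) = g * (v * s) * g⁻¹ by group, hv]; group)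
    T.2 ((T.2.to_le inf_le_left).map _)
  refine ⟨c * g, ?_, fun v hv hvs => ?_⟩
  · rw [show c * g * s * (c * g)⁻¹ = c * (g * s * g⁻¹) * c⁻¹ by group, hg, mem_centralizer_singleton_iff.1 hc,
      mul_inv_cancel_right]
  · rw [← T.is_maximal' hR hTR, show c * g * v * (c * g)⁻¹ = c * (g * v * g⁻¹) * c⁻¹ by group]
    exact hmem _ ⟨v, ⟨hv, mem_centralizer_singleton_iff.2 hvs.eq⟩, rfl⟩

/-- The case of a factor of order two. -/
theorem one_case (T : Sylow 2 G) (f : Fac (T : Subgroup G) a u 1 (β + 1))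
    (hnc : ∀ g, g * a * g⁻¹ ≠ u ^ 2 ^ β) :
    GW.CycDih (T : Subgroup G) ∨ ∃ z : G, IsIsolatedInvolution z := by
  obtain ⟨l, hl⟩ := f.conj_right (α := 0)
  rw [pow_zero, pow_one] at hl
  set t := u ^ 2 ^ β with ht
  have haa : a * a = 1 := by rw [← pow_two]; simpa [f.ha] using pow_orderOf_eq_one a
  have hai : a⁻¹ = a := inv_eq_of_mul_eq_one_right haa
  have haua : ∀ n, a * u ^ n * a = u ^ (l * n) := fun n => by
    rw [pow_mul, ← hl, conj_pow, hai]
  -- the square of an element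
  have hsq : ∀ y, (a * u ^ y) * (a * u ^ y) = u ^ ((l + 1) * y) := fun y => by
    rw [add_mul, pow_add, one_mul, ← haua, ← mul_assoc]
  by_cases hinv : u ^ (l + 1) = 1
  · left
    have hu : orderOf (⟨u, f.right⟩ : (T : Subgroup G)) = 2 ^ (β + 1) := by rw [Subgroup.orderOf_mk, f.hu]
    refine ⟨zpowers ⟨u, f.right⟩, inferInstance, le_of_eq ?_, fun x hx => ?_⟩
    · have h := card_mul_index (zpowers (⟨u, f.right⟩ : (T : Subgroup G)))
      rw [Nat.card_zpowers, hu, f.card, add_comm 1 (β + 1), pow_succ 2 (β + 1)] at h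
      exact Nat.eq_of_mul_eq_mul_left (pow_pos two_pos _) h
    · obtain ⟨p, q, hpq⟩ := f.gen x x.2
      rcases Nat.even_or_odd p with ⟨r, rfl⟩ | ⟨r, rfl⟩
      · refine absurd ⟨(q : ℤ), Subtype.ext ?_⟩ hx
        rw [hpq, ← two_mul, pow_mul, pow_two, haa, one_pow, one_mul]
        simp
      · apply Subtype.ext
        show (x : G) * x = 1
        rw [hpq, pow_succ, pow_mul, pow_two, haa, one_pow, one_mul, hsq, pow_mul, hinv, one_pow]
  right
  have htt : t * t = 1 := by
    rw [ht, ← pow_add, ← two_mul, ← pow_succ']; exact f.hu ▸ pow_orderOf_eq_one u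
  have ht1 : t ≠ 1 := fun h => by
    have h' := Nat.le_of_dvd (by positivity) (f.symm.pow_eq_one_iff.1 h)
    have : 0 < 2 ^ β := by positivity
    rw [pow_succ] at h'; omega
  have hlodd : Odd l := by
    rcases Nat.even_or_odd l with ⟨r, rfl⟩ | h
    · exfalso
      have h1 : a * t * a = 1 := by
        rw [ht, haua, show (r + r) * 2 ^ β = 2 ^ (β + 1) * r by ring]
        exact f.symm.pow_eq_one_iff.2 (dvd_mul_right _ _)
      rw [mul_eq_one_iff_eq_inv, hai, mul_eq_left] at h1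
      exact ht1 h1
    · exact h
  obtain ⟨β, rfl⟩ : ∃ β', β = β' + 1 := by
    refine ⟨β - 1, ?_⟩
    rcases Nat.eq_zero_or_pos β with rfl | h
    · obtain ⟨r, rfl⟩ := hlodd
      refine absurd (f.symm.pow_eq_one_iff.2 ?_) hinv
      exact ⟨r + 1, by rw [zero_add, pow_one]; ring⟩
    · omega
  set w := u ^ 2 ^ β
  have hwt : w * w = t := by rw [ht, ← pow_add, ← two_mul, ← pow_succ']
  have htc : Commute a t := by
    have h : a * t * a = t := by
      obtain ⟨r, rfl⟩ := hlodd
      rw [ht, haua, add_mul, one_mul, pow_add, show 2 * r * 2 ^ (β + 1) = 2 ^ (β + 1 + 1) * r by ring,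
        f.symm.pow_eq_one_iff.2 (dvd_mul_right _ _), one_mul]
    show a * t = t * a
    conv_rhs => rw [← h, mul_assoc, haa, mul_one]
  have htT : ∀ z ∈ (T : Subgroup G), Commute z t := fun z hz => by
    obtain ⟨p, q, rfl⟩ := f.gen z hz
    exact (htc.pow_left p).mul_left (Commute.pow_pow_self u q _)
  have huu : ∀ x : ℕ, u ^ x * u ^ x = 1 → u ^ x = 1 ∨ u ^ x = t := fun x h =>
    f.invol_pow (β := β + 1) (by rw [pow_two]; exact h)
  have hot : orderOf t = 2 := Invol.orderOf_eq_two_of ht1 htt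
  refine ⟨t, Invol.isolated_of_sylow T hot fun g hgT => ?_⟩
  set s := g * t * g⁻¹ with hs
  have hs2 : s * s = 1 := by rw [hs, show g * t * g⁻¹ * (g * t * g⁻¹) = g * (t * t) * g⁻¹ by group, htt]; group
  have hs1 : s ≠ 1 := fun h => ht1 (conj_eq_one_iff.1 h)
  obtain ⟨p, q, hpq⟩ := f.gen s hgT
  rcases Nat.even_or_odd p with ⟨r, rfl⟩ | ⟨r, rfl⟩
  · rw [← two_mul, pow_mul, pow_two, haa, one_pow, one_mul] at hpq
    rw [hpq] at hs1 hs2 ⊢
    exact (huu q hs2).resolve_left hs1
  rw [pow_succ, pow_mul, pow_two, haa, one_pow, one_mul] at hpq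
  exfalso
  rw [hpq, hsq] at hs2
  have hd := f.symm.pow_eq_one_iff.1 hs2
  have hag : ∀ k : G, k * a * k⁻¹ ≠ s := fun k h => hnc (g⁻¹ * k) (by
    rw [show g⁻¹ * k * a * (g⁻¹ * k)⁻¹ = g⁻¹ * (k * a * k⁻¹) * g by group, h, hs]; group)
  rcases (show l % 4 = 1 ∨ l % 4 = 3 by rw [Nat.odd_iff] at hlodd; omega) with h4 | h4
  · -- `s = a * t` and the element of order four commutes with it
    obtain ⟨o, ho⟩ : ∃ o, l + 1 = 2 * (2 * o + 1) := ⟨l / 4, by omega⟩
    rw [ho, mul_assoc, pow_succ' 2 (β + 1)] at hd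
    obtain ⟨c, hc⟩ := (Nat.Coprime.pow_left (β + 1) (Nat.coprime_two_left.2 (odd_two_mul_add_one o))).dvd_of_dvd_mul_left
      (Nat.dvd_of_mul_dvd_mul_left two_pos hd)
    have hw : Commute a w := by
      have h : a * w * a = w := by
        rw [haua, show l = 4 * (l / 4) + 1 by omega, add_mul, one_mul, pow_add,
          show 4 * (l / 4) * 2 ^ β = 2 ^ (β + 1 + 1) * (l / 4) by ring,
          f.symm.pow_eq_one_iff.2 (dvd_mul_right _ _), one_mul]
      show a * w = w * a
      conv_rhs => rw [← h, mul_assoc, haa, mul_one]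
    have hws : Commute w s := by
      rw [hpq]; exact hw.symm.mul_right (Commute.pow_pow_self u _ q)
    obtain ⟨h, hhs, hh⟩ := exists_conj_centralizer T (s := s) (y := t) (pow_mem f.right _) htT
      (g := g⁻¹) (by rw [hs]; group)
    obtain ⟨p', q', hw'⟩ := f.gen _ (hh w (pow_mem f.right _) hws)
    obtain ⟨n, hn⟩ : ∃ n, h * t * h⁻¹ = u ^ n := by
      rw [← hwt, show h * (w * w) * h⁻¹ = (h * w * h⁻¹) * (h * w * h⁻¹) by group, hw']
      rcases Nat.even_or_odd p' with ⟨r', rfl⟩ | ⟨r', rfl⟩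
      · exact ⟨q' + q', by rw [← two_mul, pow_mul, pow_two, haa, one_pow, one_mul, pow_add]⟩
      · exact ⟨(l + 1) * q', by rw [pow_succ, pow_mul, pow_two, haa, one_pow, one_mul, hsq]⟩
    have hn2 : u ^ n * u ^ n = 1 := by
      rw [← hn, show h * t * h⁻¹ * (h * t * h⁻¹) = h * (t * t) * h⁻¹ by group, htt]; group
    rcases huu n hn2 with e | e
    · exact ht1 (conj_eq_one_iff.1 (hn.trans e))
    · have hst : s = t := mul_left_cancel (mul_right_cancel (hhs.trans (hn.trans e).symm))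
      rw [hpq] at hst
      have h0 : a ^ 1 * u ^ q = a ^ 0 * u ^ 2 ^ (β + 1) := by simpa using hst
      exact absurd (f.uniq h0).1 (by decide)
  · -- `s` is conjugate to `a`
    have hq : Even q := by
      rcases Nat.even_or_odd q with h | h
      · exact h
      · exact absurd (f.symm.pow_eq_one_iff.2
          ((Nat.Coprime.pow_left _ (Nat.coprime_two_left.2 h)).dvd_of_dvd_mul_right hd)) hinv
    obtain ⟨e, rfl⟩ := hq
    obtain ⟨o, ho⟩ : ∃ o, l = 2 * (2 * o + 1) + 1 := ⟨l / 4, by omega⟩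
    obtain ⟨d, hdw⟩ := exists_pow_eq_self_of_coprime (x := u ^ 2) (n := 2 * o + 1) (by
      rw [orderOf_pow_of_dvd two_ne_zero (by rw [f.hu]; exact dvd_pow_self 2 (by omega)), f.hu, pow_succ,
        Nat.mul_div_cancel _ two_pos]
      exact Nat.Coprime.pow_right _ (Nat.coprime_two_right.2 (odd_two_mul_add_one o)))
    refine hag (u ^ (d * e)) ?_
    rw [mul_inv_eq_iff_eq_mul, hpq, mul_assoc, ← pow_add]
    have hr : u ^ (e + e + d * e) = u ^ (l * (d * e)) := by
      rw [ho, add_mul _ 1 (d * e), one_mul, pow_add, pow_add u (2 * (2 * o + 1) * (d * e)),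
        show 2 * (2 * o + 1) * (d * e) = 2 * (2 * o + 1) * d * e by ring, pow_mul _ (2 * (2 * o + 1) * d) e,
        pow_mul _ (2 * (2 * o + 1)) d, pow_mul _ 2 (2 * o + 1), hdw, ← pow_mul, two_mul]
    rw [hr, ← haua, ← mul_assoc, ← mul_assoc, haa, one_mul]

end Cfsg.Lib.CyclicZ
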