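import Cfsg.Agent.Lib.CyclicZ.Parity
import Mathlib.GroupTheory.Perm.Cycle.Type
import Mathlib.GroupTheory.GroupAction.Quotient

/-!
# The sign on the cosets of one factor

If the involutions of the two factors are not conjugate, the generator of one factor moves all cosets of
the other factor in full cycles, so is odd, while all involutions are even.
-/

set_option autoImplicit false
set_option linter.unusedSectionVars false
set_option linter.style.haveILetI false

namespace Cfsg.Lib.CyclicZ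

open Subgroup

/-- The sign of a permutation all of whose cycles have length `2 ^ (j + 1)`. -/
theorem sign_free {α : Type*} [Fintype α] [DecidableEq α] {P : Equiv.Perm α} {j : ℕ}
    (hP : P ^ 2 ^ (j + 1) = 1) (hfree : ∀ x, (P ^ 2 ^ j) x ≠ x) :
    ∃ k, Fintype.card α = 2 ^ (j + 1) * k ∧ Equiv.Perm.sign P = (-1) ^ k := by
  have hne : ∀ x, P x ≠ x := fun x hx => hfree x (Equiv.Perm.pow_apply_eq_self_of_apply_eq_self hx _)
  have hlen : ∀ n ∈ P.cycleType, n = 2 ^ (j + 1) := by
    intro n hn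
    have hd := (Equiv.Perm.dvd_of_mem_cycleType hn).trans (orderOf_dvd_of_pow_eq_one hP)
    rw [Equiv.Perm.cycleType_def, Multiset.mem_map] at hn
    obtain ⟨c, hc, rfl⟩ := hn
    rw [Finset.mem_val] at hc
    obtain ⟨hcyc, hcP⟩ := Equiv.Perm.mem_cycleFactorsFinset_iff.1 hc
    obtain ⟨x, hx⟩ := Finset.card_pos.1 (lt_of_lt_of_le Nat.zero_lt_two hcyc.two_le_card_support)
    have hxc : c = P.cycleOf x := Equiv.Perm.cycle_is_cycleOf hx hc
    rw [Function.comp_apply, ← hcyc.orderOf] at hd ⊢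
    obtain ⟨i, hi, e⟩ := (Nat.dvd_prime_pow Nat.prime_two).1 hd
    rw [e]
    congr 1
    by_contra hij
    refine hfree x ?_
    rw [← Equiv.Perm.cycleOf_pow_apply_self, ← hxc,
      orderOf_dvd_iff_pow_eq_one.1 (e ▸ pow_dvd_pow 2 (show i ≤ j by omega)), Equiv.Perm.one_apply]
  have hrep := Multiset.eq_replicate_card.2 hlen
  have hsum : P.cycleType.sum = Fintype.card α := by
    rw [Equiv.Perm.sum_cycleType, ← Finset.card_univ]
    congr 1
    exact Finset.eq_univ_of_forall fun x => Equiv.Perm.mem_support.2 (hne x)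
  rw [hrep, Multiset.sum_replicate, smul_eq_mul] at hsum
  refine ⟨Multiset.card P.cycleType, by rw [← hsum, mul_comm], ?_⟩
  rw [Equiv.Perm.sign_of_cycleType, hrep, Multiset.sum_replicate, Multiset.card_replicate, smul_eq_mul,
    pow_add, pow_succ, ← mul_assoc, mul_comm _ 2, pow_mul, Int.units_sq, one_pow, one_mul]

variable {G : Type*} [Group G] [Finite G] {a u : G} {α β : ℕ}

/-- A group with such a Sylow 2-subgroup has a sign. -/
theorem exists_sign (T : Sylow 2 G) (f : Fac (T : Subgroup G) a u (α + 2) (β + 2))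
    (hnc : ∀ g, g * a ^ 2 ^ (α + 1) * g⁻¹ ≠ u ^ 2 ^ (β + 1)) :
    ∃ χ : G →* ℤˣ, χ a = -1 ∧ ∀ x, x * x = 1 → χ x = 1 := by
  classical
  haveI : Fact (Nat.Prime 2) := ⟨Nat.prime_two⟩
  haveI := Fintype.ofFinite (G ⧸ zpowers u)
  let χ : G →* ℤˣ := Equiv.Perm.sign.comp (MulAction.toPermHom G (G ⧸ zpowers u))
  -- a fixed coset puts a conjugate into the factor
  have hfix : ∀ (g : G) (x : G ⧸ zpowers u), g • x = x → ∃ h : G, h⁻¹ * g * h ∈ zpowers u := by
    intro g x hx
    obtain ⟨h, rfl⟩ := QuotientGroup.mk_surjective x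
    refine ⟨h, ?_⟩
    rw [MulAction.Quotient.smul_mk, smul_eq_mul, eq_comm, QuotientGroup.eq] at hx
    rwa [mul_assoc]
  have huniq : ∀ x ∈ zpowers u, x * x = 1 → x = 1 ∨ x = u ^ 2 ^ (β + 1) := by
    intro x hx h2
    obtain ⟨n, rfl⟩ := (isOfFinOrder_of_finite u).mem_powers_iff_mem_zpowers.2 hx
    exact f.invol_pow (β := β + 1) (by rw [pow_two]; exact h2)
  have ht : χ (u ^ 2 ^ (β + 1)) = 1 := by
    rw [pow_succ, pow_mul, map_pow, Int.units_sq]
  have hcard : Fintype.card (G ⧸ zpowers u) = 2 ^ (α + 2) * (T : Subgroup G).index := by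
    rw [← Nat.card_eq_fintype_card, ← index_eq_card]
    refine Nat.eq_of_mul_eq_mul_left (pow_pos two_pos (β + 2)) ?_
    calc 2 ^ (β + 2) * (zpowers u).index = Nat.card G := by
          rw [← card_mul_index (zpowers u), Nat.card_zpowers, f.hu]
      _ = 2 ^ (α + 2 + (β + 2)) * (T : Subgroup G).index := by rw [← f.card, card_mul_index]
      _ = _ := by ring
  have hodd : Odd (T : Subgroup G).index := Nat.not_even_iff_odd.1 fun h => T.not_dvd_index h.two_dvd
  refine ⟨χ, ?_, fun x hx => ?_⟩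
  · have h1 : (MulAction.toPermHom G (G ⧸ zpowers u) a) ^ 2 ^ (α + 1 + 1) = 1 := by
      rw [← map_pow, show α + 1 + 1 = α + 2 from rfl, ← f.ha, pow_orderOf_eq_one, map_one]
    obtain ⟨k, hk, hs⟩ := sign_free (j := α + 1) h1 fun z hz => by
      rw [← map_pow, MulAction.toPermHom_apply, MulAction.toPerm_apply] at hz
      obtain ⟨h, hh⟩ := hfix _ z hz
      have hi2 : a ^ 2 ^ (α + 1) * a ^ 2 ^ (α + 1) = 1 := by
        rw [← pow_add, ← two_mul, ← pow_succ']; exact f.ha ▸ pow_orderOf_eq_one a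
      rcases huniq _ hh (by rw [show h⁻¹ * a ^ 2 ^ (α + 1) * h * (h⁻¹ * a ^ 2 ^ (α + 1) * h) =
          h⁻¹ * (a ^ 2 ^ (α + 1) * a ^ 2 ^ (α + 1)) * h by group, hi2]; group) with e | e
      · have h0 : a ^ 2 ^ (α + 1) = 1 := by
          rw [mul_eq_one_iff_eq_inv, mul_eq_left] at e
          exact e
        have := Nat.le_of_dvd (by positivity) (f.pow_eq_one_iff.1 h0)
        have hpos : 0 < 2 ^ (α + 1) := by positivity
        rw [show α + 2 = α + 1 + 1 from rfl, pow_succ 2 (α + 1)] at this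
        omega
      · exact hnc h⁻¹ (by rw [inv_inv]; exact e)
    show Equiv.Perm.sign _ = -1
    rw [hs]
    refine Odd.neg_one_pow ?_
    rw [Nat.eq_of_mul_eq_mul_left (by positivity) (hk.symm.trans hcard)]
    exact hodd
  · by_cases hf : ∃ z : G ⧸ zpowers u, x • z = z
    · obtain ⟨z, hz⟩ := hf
      obtain ⟨h, hh⟩ := hfix x z hz
      have hc : χ x = χ (h⁻¹ * x * h) := by rw [map_mul, map_mul, map_inv, mul_comm, mul_inv_cancel_left]
      rcases huniq _ hh (by rw [show h⁻¹ * x * h * (h⁻¹ * x * h) = h⁻¹ * (x * x) * h by group, hx]; group)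
        with e | e
      · rw [hc, e, map_one]
      · rw [hc, e, ht]
    · push Not at hf
      have h1 : (MulAction.toPermHom G (G ⧸ zpowers u) x) ^ 2 ^ (0 + 1) = 1 := by
        rw [zero_add, pow_one, pow_two, ← map_mul, hx, map_one]
      obtain ⟨k, hk, hs⟩ := sign_free (j := 0) h1 fun z hz => hf z (by simpa using hz)
      show Equiv.Perm.sign _ = 1
      rw [hs]
      refine Even.neg_one_pow ?_
      rw [hcard, pow_succ _ (α + 1), mul_comm (2 ^ (α + 1)) 2, mul_assoc, zero_add, pow_one] at hk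
      rw [← Nat.eq_of_mul_eq_mul_left two_pos hk]
      exact (Nat.even_pow.2 ⟨even_two, by omega⟩).mul_right _

end Cfsg.Lib.CyclicZ
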