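import Cfsg.Agent.Lib.CyclicZ.Outer
import Cfsg.Agent.Lib.CyclicZ.Central
import Cfsg.Agent.Lib.CyclicZ.Sign
import Cfsg.Agent.Lib.CyclicZ.One

/-!
# Two factors of order at least four

If both factors have order at least four and their involutions are not conjugate, there is an isolated
involution.
-/

set_option autoImplicit false
set_option linter.unusedSectionVars false
set_option linter.style.haveILetI false

namespace Cfsg.Lib.CyclicZ

open Subgroup

variable {G : Type*} [Group G] [Finite G] {a u : G} {α β : ℕ}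

/-- An involution outside the Frattini product has odd exponents. -/
theorem odd_odd (T : Sylow 2 G) (f : Fac (T : Subgroup G) a u (α + 2) (β + 2))
    (hnc : ∀ g, g * a ^ 2 ^ (α + 1) * g⁻¹ ≠ u ^ 2 ^ (β + 1)) {s : G} (hsT : s ∈ (T : Subgroup G))
    (hs : s * s = 1) (hsΦ : s ∉ closure {a ^ 2, u ^ 2}) : ∃ p q, Odd p ∧ Odd q ∧ s = a ^ p * u ^ q := by
  obtain ⟨p, q, hpq⟩ := f.gen s hsT
  refine ⟨p, q, ?_⟩
  obtain ⟨χ, hχ, h1⟩ := exists_sign T f hnc
  obtain ⟨χ', hχ', h1'⟩ := exists_sign T f.symm fun g h => hnc g⁻¹ (by rw [← h]; group)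
  have hev : ¬ (Even p ∧ Even q) := fun h => hsΦ (hpq ▸ f.even_iff.2 h)
  have e := h1 s hs
  have e' := h1' s hs
  rw [hpq, map_mul, map_pow, map_pow, hχ] at e
  rw [hpq, map_mul, map_pow, map_pow, hχ'] at e'
  have key : ∀ n : ℕ, (-1 : ℤˣ) ^ n = 1 → Even n := fun n h => by
    rcases Nat.even_or_odd n with ev | ev
    · exact ev
    · rw [ev.neg_one_pow] at h; exact absurd h (by decide)
  rcases Int.units_eq_one_or (χ u) with hu | hu
  · rw [hu, one_pow, mul_one] at e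
    have hp := key p e
    rcases Int.units_eq_one_or (χ' a) with ha | ha
    · rw [ha, one_pow, one_mul] at e'
      exact absurd ⟨hp, key q e'⟩ hev
    · rw [ha, ← pow_add] at e'
      exact absurd ⟨hp, (Nat.even_add.1 (key _ e')).1 hp⟩ hev
  · rw [hu, ← pow_add] at e
    have h2 := Nat.even_add.1 (key _ e)
    have hp : ¬ Even p := fun h => hev ⟨h, h2.1 h⟩
    exact ⟨Nat.not_even_iff_odd.1 hp, Nat.not_even_iff_odd.1 fun h => hp (h2.2 h), hpq⟩

/-- The two involutions are squares in the Sylow subgroup and lie in the Frattini product. -/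
theorem Fac.invol_facts {H : Subgroup G} (f : Fac H a u (α + 2) (β + 2)) :
    a ^ 2 ^ (α + 1) ∈ closure {a ^ 2, u ^ 2} ∧ a ^ 2 ^ (α + 1) * a ^ 2 ^ (α + 1) = 1 ∧
      a ^ 2 ^ (α + 1) ≠ 1 := by
  refine ⟨?_, ?_, fun h => ?_⟩
  · rw [pow_succ' 2 α, pow_mul]; exact pow_mem (subset_closure (by simp)) _
  · rw [← pow_add, ← two_mul, ← pow_succ']; exact f.ha ▸ pow_orderOf_eq_one a
  · have h' := (Nat.pow_dvd_pow_iff_le_right (le_refl 2)).1 (f.pow_eq_one_iff.1 h)
    omega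

/-- The first case: the involution of the second factor is the only central one. -/
theorem noncentral_case (T : Sylow 2 G) (f : Fac (T : Subgroup G) a u (α + 2) (β + 2))
    (hnc : ∀ g, g * a ^ 2 ^ (α + 1) * g⁻¹ ≠ u ^ 2 ^ (β + 1))
    (hta : a * u ^ 2 ^ (β + 1) * a⁻¹ = u ^ 2 ^ (β + 1))
    (hui : u * a ^ 2 ^ (α + 1) * u⁻¹ ≠ a ^ 2 ^ (α + 1)) : IsIsolatedInvolution (u ^ 2 ^ (β + 1)) := by
  obtain ⟨hiΦ, hii, hi1⟩ := f.invol_facts
  obtain ⟨htΦ', htt, ht1⟩ := f.symm.invol_facts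
  have hit := f.comm_it
  set i := a ^ 2 ^ (α + 1) with hi
  set t := u ^ 2 ^ (β + 1) with ht
  have htΦ : t ∈ closure {a ^ 2, u ^ 2} := by rwa [Set.pair_comm]
  have htT : ∀ z ∈ (T : Subgroup G), Commute z t := fun z hz => by
    obtain ⟨p, q, rfl⟩ := f.gen z hz
    exact (Commute.pow_left (show Commute a t from mul_inv_eq_iff_eq_mul.1 hta) p).mul_left (Commute.pow_pow_self u q _)
  have hai : Commute a i := Commute.self_pow a _
  have hconj : ∀ g : G, g * i * g⁻¹ * (g * i * g⁻¹) = 1 := fun g => by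
    rw [show g * i * g⁻¹ * (g * i * g⁻¹) = g * (i * i) * g⁻¹ by group, hii]; group
  have hu_i : u * i * u⁻¹ = i * t := by
    rcases f.invol_mem (f.normal' f.right hiΦ) (hconj u) with e | e | e | e
    · exact absurd (conj_eq_one_iff.1 e) hi1
    · exact absurd e hui
    · exact absurd e (hnc u)
    · exact e
  have hnc' : ∀ g, g * t * g⁻¹ ≠ i ∧ g * t * g⁻¹ ≠ i * t := fun g => by
    refine ⟨fun h => hnc g⁻¹ (by rw [← h]; group), fun h => hnc (g⁻¹ * u) ?_⟩
    rw [show g⁻¹ * u * i * (g⁻¹ * u)⁻¹ = g⁻¹ * (u * i * u⁻¹) * g by group, hu_i, ← h]; group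
  have huu : Commute (u ^ 2) i := by
    rw [Commute, SemiconjBy, ← mul_inv_eq_iff_eq_mul, show u ^ 2 * i * (u ^ 2)⁻¹ = u * (u * i * u⁻¹) * u⁻¹ by
      rw [pow_two]; group, hu_i, show u * (i * t) * u⁻¹ = (u * i * u⁻¹) * (u * t * u⁻¹) by group, hu_i,
      (Commute.self_pow u _).eq, mul_inv_cancel_right, mul_assoc, htt, mul_one]
  obtain ⟨β, rfl⟩ : ∃ β', β = β' + 1 := by
    refine ⟨β - 1, ?_⟩
    rcases Nat.eq_zero_or_pos β with rfl | h
    swap
    · omega
    exfalso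
    obtain ⟨fM, -, hn⟩ := f.half
    obtain ⟨x, y, hxy⟩ := fM.gen _ (hn u f.right a fM.left)
    have hat : Commute a t := mul_inv_eq_iff_eq_mul.1 hta
    rw [show u ^ 2 = t by rw [ht]; rfl] at hxy
    have h : u * i * u⁻¹ = i ^ x := by
      rw [hi, ← conj_pow, hxy, (hat.pow_pow x y).mul_pow, ← pow_mul t, ← pow_mul, pow_succ' 2 α,
        show y * (2 * 2 ^ α) = 2 * (y * 2 ^ α) by ring, pow_mul t, pow_two t, htt, one_pow, mul_one, ← pow_mul,
        mul_comm x]
    rcases Nat.even_or_odd x with ⟨r, rfl⟩ | ⟨r, rfl⟩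
    · rw [← two_mul, pow_mul, pow_two, hii, one_pow] at h
      exact hi1 (conj_eq_one_iff.1 h)
    · rw [pow_succ, pow_mul, pow_two, hii, one_pow, one_mul] at h
      exact hui h
  set w := u ^ 2 ^ (β + 1) with hw
  have hwt : w * w = t := by rw [ht, ← pow_add, ← two_mul, ← pow_succ']
  have hwΦ : w ∈ closure {a ^ 2, u ^ 2} := by
    rw [hw, pow_succ' 2 β, pow_mul]; exact pow_mem (subset_closure (by simp)) _
  have hw4 : w ^ 4 = 1 := by rw [show (4 : ℕ) = 2 * 2 from rfl, pow_mul, pow_two w, hwt, pow_two, htt]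
  have hwi : Commute w i := by
    rw [hw, pow_succ' 2 β, pow_mul]; exact huu.pow_left _
  refine Invol.isolated_of_sylow T (Invol.orderOf_eq_two_of ht1 htt) fun g hgT => ?_
  set s := g * t * g⁻¹ with hs
  have hs2 : s * s = 1 := by rw [hs, show g * t * g⁻¹ * (g * t * g⁻¹) = g * (t * t) * g⁻¹ by group, htt]; group
  have hs1 : s ≠ 1 := fun h => ht1 (conj_eq_one_iff.1 h)
  by_cases hsΦ : s ∈ closure {a ^ 2, u ^ 2}
  · rcases f.invol_mem hsΦ hs2 with e | e | e | e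
    · exact absurd e hs1
    · exact absurd e (hnc' g).1
    · exact e
    · exact absurd e (hnc' g).2
  exfalso
  obtain ⟨p, q, -, ⟨r, rfl⟩, hpq⟩ := odd_odd T f hnc hgT hs2 hsΦ
  have hap : ∀ n, a ^ n * i * (a ^ n)⁻¹ = i ∧ a ^ n * t * (a ^ n)⁻¹ = t := fun n =>
    ⟨by rw [(hai.pow_left n).eq, mul_inv_cancel_right],
      by rw [(htT _ (pow_mem f.left n)).eq, mul_inv_cancel_right]⟩
  have hsi : s * i * s⁻¹ = i * t := by
    rw [hpq, show a ^ p * u ^ (2 * r + 1) * i * (a ^ p * u ^ (2 * r + 1))⁻¹ =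
      a ^ p * ((u ^ 2) ^ r * (u * i * u⁻¹) * ((u ^ 2) ^ r)⁻¹) * (a ^ p)⁻¹ by
        rw [← pow_mul, pow_succ]; group, hu_i,
      ((huu.pow_left r).mul_right (htT _ (pow_mem (pow_mem f.right 2) r))).eq, mul_inv_cancel_right,
      show a ^ p * (i * t) * (a ^ p)⁻¹ = (a ^ p * i * (a ^ p)⁻¹) * (a ^ p * t * (a ^ p)⁻¹) by group,
      (hap p).1, (hap p).2]
  have hsT : Commute s t := htT s hgT
  -- the conjugate of the element of order four
  set w' := s * w * s⁻¹ with hw'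
  have hw'Φ : w' ∈ closure {a ^ 2, u ^ 2} := f.normal' hgT hwΦ
  have hw'4 : w' ^ 4 = 1 := by rw [hw', conj_pow, hw4]; group
  have hw'2 : w' * w' = t := by
    rw [hw', show s * w * s⁻¹ * (s * w * s⁻¹) = s * (w * w) * s⁻¹ by group, hwt, hsT.eq, mul_inv_cancel_right]
  have hc := f.four_comm hwΦ hw'Φ hw4 hw'4
  have hz2 : w⁻¹ * w' * (w⁻¹ * w') = 1 := by
    rw [hc.inv_left.symm.mul_mul_mul_comm, hw'2, ← mul_inv_rev, hwt, inv_mul_cancel]
  have hback : s * w' * s⁻¹ = w := by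
    rw [hw', show s * (s * w * s⁻¹) * s⁻¹ = (s * s) * w * (s * s)⁻¹ by group, hs2]; group
  have hts : s * t * s⁻¹ = t := by rw [hsT.eq, mul_inv_cancel_right]
  have hbad : w * t ≠ w := fun h => ht1 (mul_eq_left.1 h)
  obtain ⟨v, hvΦ, hvt, hvs⟩ : ∃ v ∈ closure {a ^ 2, u ^ 2}, v * v = t ∧ Commute v s := by
    rcases f.invol_mem (mul_mem (inv_mem hwΦ) hw'Φ) hz2 with e | e | e | e <;>
      rw [inv_mul_eq_iff_eq_mul] at e
    · rw [mul_one] at e
      exact ⟨w, hwΦ, hwt, (mul_inv_eq_iff_eq_mul.1 e : Commute s w).symm⟩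
    · exfalso
      rw [e, show s * (w * i) * s⁻¹ = w' * (s * i * s⁻¹) by rw [hw']; group, hsi, e, mul_assoc, ← mul_assoc i,
        hii, one_mul] at hback
      exact hbad hback
    · refine ⟨w * i, mul_mem hwΦ hiΦ, by rw [hwi.symm.mul_mul_mul_comm, hwt, hii, mul_one], Commute.symm ?_⟩
      rw [Commute, SemiconjBy, ← mul_inv_eq_iff_eq_mul,
        show s * (w * i) * s⁻¹ = w' * (s * i * s⁻¹) by rw [hw']; group, hsi, e, mul_assoc, ← mul_assoc t,
        ← hit.eq, mul_assoc i t t, htt, mul_one]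
    · exfalso
      rw [e, show s * (w * (i * t)) * s⁻¹ = w' * (s * i * s⁻¹) * (s * t * s⁻¹) by rw [hw']; group, hsi, hts, e,
        mul_assoc, mul_assoc, mul_assoc i t t, htt, mul_one, hit.eq, mul_assoc t i i, hii, mul_one] at hback
      exact hbad hback
  obtain ⟨h, hhs, hh⟩ := exists_conj_centralizer T (s := s) (pow_mem f.right _) htT (g := g⁻¹)
    (show g⁻¹ * s * g⁻¹⁻¹ = t by rw [hs]; group)
  have hmem : h * t * h⁻¹ ∈ closure {a ^ 2, u ^ 2} := by
    rw [← hvt, show h * (v * v) * h⁻¹ = (h * v * h⁻¹) ^ 2 by rw [pow_two]; group]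
    exact f.sq_mem' (hh v (f.le' hvΦ) hvs)
  have ht' : h * t * h⁻¹ = t := by
    rcases f.invol_mem hmem (by rw [show h * t * h⁻¹ * (h * t * h⁻¹) = h * (t * t) * h⁻¹ by group, htt]; group)
      with e | e | e | e
    · exact absurd (conj_eq_one_iff.1 e) ht1
    · exact absurd e (hnc' h).1
    · exact e
    · exact absurd e (hnc' h).2
  exact hsΦ (mul_left_cancel (mul_right_cancel (hhs.trans ht'.symm)) ▸ htΦ)

/-- The classes of involutions outside the Frattini product are large. -/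
theorem card_le_orbit {H : Subgroup G} (f : Fac H a u (α + 2) (β + 2)) {p q : ℕ} (hp : Odd p) (hq : Odd q)
    (hs : (a ^ p * u ^ q) * (a ^ p * u ^ q) = 1)
    (hno : ∀ v ∈ closure {a ^ 2, u ^ 2}, v ^ 4 = 1 → Commute v (a ^ p * u ^ q) → v * v = 1) :
    Nat.card H ≤ 8 * (Set.range fun z : H => (z : G) * (a ^ p * u ^ q) * (z : G)⁻¹).ncard := by
  classical
  set s := a ^ p * u ^ q
  set i := a ^ 2 ^ (α + 1)
  set t := u ^ 2 ^ (β + 1)
  let C : Finset G := [1, i, t, i * t, s, s * i, s * t, s * (i * t)].toFinset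
  have hC : C.card ≤ 8 := List.toFinset_card_le _
  set O := Set.range fun z : H => (z : G) * s * (z : G)⁻¹
  choose rep hrep using fun c : O => c.2
  let F : H → O × C := fun z => (⟨_, z, rfl⟩, ⟨((rep ⟨_, z, rfl⟩ : H) : G)⁻¹ * z, by
    have h := hrep ⟨_, z, rfl⟩
    set r := rep ⟨_, z, rfl⟩
    simp only at h
    obtain ⟨e, he, w, hw, hew⟩ := f.commute_cases hp hq hs hno (mul_mem (inv_mem r.2) z.2) (by
      show (r : G)⁻¹ * z * s = s * ((r : G)⁻¹ * z)
      calc (r : G)⁻¹ * z * s = (r : G)⁻¹ * (z * s * (z : G)⁻¹) * z := by group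
        _ = (r : G)⁻¹ * (r * s * (r : G)⁻¹) * z := by rw [h]
        _ = s * ((r : G)⁻¹ * z) := by group)
    rw [hew]
    rcases he with rfl | rfl <;> rcases hw with rfl | rfl | rfl | rfl <;> simp [C, i, t, s]⟩)
  have hF : Function.Injective F := by
    intro z z' h
    obtain ⟨h1, h2⟩ := Prod.ext_iff.1 h
    have h2' := congrArg Subtype.val h2
    dsimp only [F] at h1 h2'
    rw [h1] at h2'
    exact Subtype.ext (mul_left_cancel h2')
  have hle := Nat.card_le_card_of_injective F hF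
  rw [Nat.card_prod, Nat.card_coe_set_eq, Nat.card_eq_finsetCard] at hle
  exact hle.trans (by rw [mul_comm 8]; exact Nat.mul_le_mul_left _ hC)

/-- The second case: all three involutions are central. -/
theorem central_case (T : Sylow 2 G) (f : Fac (T : Subgroup G) a u (α + 2) (β + 2))
    (hnc : ∀ g, g * a ^ 2 ^ (α + 1) * g⁻¹ ≠ u ^ 2 ^ (β + 1))
    (hta : a * u ^ 2 ^ (β + 1) * a⁻¹ = u ^ 2 ^ (β + 1))
    (hui : u * a ^ 2 ^ (α + 1) * u⁻¹ = a ^ 2 ^ (α + 1)) : ∃ z : G, IsIsolatedInvolution z := by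
  classical
  haveI : Fact (Nat.Prime 2) := ⟨Nat.prime_two⟩
  obtain ⟨hiΦ, hii, hi1⟩ := f.invol_facts
  obtain ⟨htΦ', htt, ht1⟩ := f.symm.invol_facts
  have hit := f.comm_it
  set i := a ^ 2 ^ (α + 1) with hi
  set t := u ^ 2 ^ (β + 1) with ht
  have htΦ : t ∈ closure {a ^ 2, u ^ 2} := by rwa [Set.pair_comm]
  -- the involutions of the Frattini product are central
  have hcU : ∀ v ∈ closure {a ^ 2, u ^ 2}, v * v = 1 → ∀ z ∈ (T : Subgroup G), Commute z v := by
    intro v hv hv2 z hz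
    obtain ⟨p, q, rfl⟩ := f.gen z hz
    have hci : Commute (a ^ p * u ^ q) i :=
      (Commute.pow_pow_self a p _).mul_left (Commute.pow_left (show Commute u i from mul_inv_eq_iff_eq_mul.1 hui) q)
    have hct : Commute (a ^ p * u ^ q) t :=
      (Commute.pow_left (show Commute a t from mul_inv_eq_iff_eq_mul.1 hta) p).mul_left (Commute.pow_pow_self u q _)
    rcases f.invol_mem hv hv2 with rfl | rfl | rfl | rfl
    exacts [Commute.one_right _, hci, hct, hci.mul_right hct]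
  obtain ⟨χ, hχ, -⟩ := exists_sign T f hnc
  have hL : ∀ x ∈ closure {a ^ 2, u ^ 2}, x * x = 1 → ∀ g : G, g * x * g⁻¹ ∈ closure {a ^ 2, u ^ 2} →
      g * x * g⁻¹ = x := fun x hx hx2 g hg =>
    conj_central_eq T f χ hχ (f.le' hx) (hcU x hx hx2) (hcU _ hg (by
      rw [show g * x * g⁻¹ * (g * x * g⁻¹) = g * (x * x) * g⁻¹ by group, hx2]; group))
  by_contra hno
  push Not at hno
  -- each of the three involutions has a conjugate outside the Frattini product
  have hout : ∀ x ∈ closure {a ^ 2, u ^ 2}, x * x = 1 → x ≠ 1 → ∃ g : G, ∃ p q, Odd p ∧ Odd q ∧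
      g * x * g⁻¹ = a ^ p * u ^ q ∧ (a ^ p * u ^ q) * (a ^ p * u ^ q) = 1 ∧
      g * x * g⁻¹ ∉ closure {a ^ 2, u ^ 2} := by
    intro x hx hx2 hx1
    by_contra hcon
    refine hno x (Invol.isolated_of_sylow T (Invol.orderOf_eq_two_of hx1 hx2) fun g hgT => ?_)
    by_cases hgΦ : g * x * g⁻¹ ∈ closure {a ^ 2, u ^ 2}
    · exact hL x hx hx2 g hgΦ
    · have hs2 : g * x * g⁻¹ * (g * x * g⁻¹) = 1 := by
        rw [show g * x * g⁻¹ * (g * x * g⁻¹) = g * (x * x) * g⁻¹ by group, hx2]; group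
      obtain ⟨p, q, hp, hq, he⟩ := odd_odd T f hnc hgT hs2 hgΦ
      exact absurd ⟨g, p, q, hp, hq, he, he ▸ hs2, hgΦ⟩ hcon
  -- no element of order four of the Frattini product commutes with such a conjugate
  have hfour : ∀ p q, Odd p → Odd q → ∀ v ∈ closure {a ^ 2, u ^ 2}, v ^ 4 = 1 →
      Commute v (a ^ p * u ^ q) → v * v = 1 := by
    intro p q hp hq v hv hv4 hvs
    by_contra hx1
    have hx2 : v * v * (v * v) = 1 := by rw [← hv4]; simp [pow_succ, mul_assoc]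
    have hxΦ := mul_mem hv hv
    -- the squares centralise `v`
    have hgen : ∀ e ∈ (T : Subgroup G), Commute (e ^ 2) v := by
      intro e he
      set v' := e * v * e⁻¹ with hv'
      have hv'Φ : v' ∈ closure {a ^ 2, u ^ 2} := f.normal' he hv
      have hv'4 : v' ^ 4 = 1 := by rw [hv', conj_pow, hv4]; group
      have hv'2 : v' * v' = v * v := by
        rw [hv', show e * v * e⁻¹ * (e * v * e⁻¹) = e * (v * v) * e⁻¹ by group,
          (hcU _ hxΦ hx2 e he).eq, mul_inv_cancel_right]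
      have hc := f.four_comm hv hv'Φ hv4 hv'4
      have hz2 : v⁻¹ * v' * (v⁻¹ * v') = 1 := by
        rw [hc.inv_left.symm.mul_mul_mul_comm, hv'2, ← mul_inv_rev, inv_mul_cancel]
      have hz := hcU _ (mul_mem (inv_mem hv) hv'Φ) hz2 e he
      rw [Commute, SemiconjBy, ← mul_inv_eq_iff_eq_mul]
      calc e ^ 2 * v * (e ^ 2)⁻¹ = e * v' * e⁻¹ := by rw [hv', pow_two]; group
        _ = e * (v * (v⁻¹ * v')) * e⁻¹ := by rw [mul_inv_cancel_left]
        _ = v' * (e * (v⁻¹ * v') * e⁻¹) := by rw [hv']; group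
        _ = v' * (v⁻¹ * v') := by rw [hz.eq, mul_inv_cancel_right]
        _ = v := by rw [← mul_assoc, hc.inv_left.symm.eq, mul_assoc, hv'2, inv_mul_cancel_left]
    have hΦc : closure {a ^ 2, u ^ 2} ≤ centralizer ({v} : Set G) := (closure_le _).2 (by
      rintro z (rfl | rfl)
      exacts [mem_centralizer_singleton_iff.2 (hgen a f.left).eq,
        mem_centralizer_singleton_iff.2 (hgen u f.right).eq])
    obtain ⟨g, p', q', hp', hq', hg, -, hgΦ⟩ := hout (v * v) hxΦ hx2 hx1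
    have hvs' : Commute v (a ^ p' * u ^ q') := by
      rw [Nat.odd_iff] at hp hq hp' hq'
      have h : Commute v ((a ^ p * u ^ q)⁻¹ * (a ^ p' * u ^ q')) := (show Commute _ v from
        mem_centralizer_singleton_iff.1 (hΦc (f.same_class (hp.trans hp'.symm) (hq.trans hq'.symm)))).symm
      have h' := hvs.mul_right h
      rwa [mul_inv_cancel_left] at h'
    obtain ⟨h, hhs, hh⟩ := exists_conj_centralizer T (s := a ^ p' * u ^ q') (f.le' hxΦ) (hcU _ hxΦ hx2)
      (g := g⁻¹) (show g⁻¹ * (a ^ p' * u ^ q') * g⁻¹⁻¹ = v * v by rw [← hg]; group)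
    have hmem : h * (v * v) * h⁻¹ ∈ closure {a ^ 2, u ^ 2} := by
      rw [show h * (v * v) * h⁻¹ = (h * v * h⁻¹) ^ 2 by rw [pow_two]; group]
      exact f.sq_mem' (hh v (f.le' hv) hvs')
    have he : a ^ p' * u ^ q' = v * v :=
      mul_left_cancel (mul_right_cancel (hhs.trans (hL _ hxΦ hx2 h hmem).symm))
    exact hgΦ (by rw [hg, he]; exact hxΦ)
  -- three classes in one coset
  have hitΦ := mul_mem hiΦ htΦ
  have hit2 : i * t * (i * t) = 1 := by rw [hit.symm.mul_mul_mul_comm, hii, htt, one_mul]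
  have hit1 : i * t ≠ 1 := fun h => by
    rw [mul_eq_one_iff_eq_inv, inv_eq_of_mul_eq_one_right htt] at h
    exact hnc 1 (by simpa using h)
  obtain ⟨g1, p1, q1, hp1, hq1, e1, s1, -⟩ := hout i hiΦ hii hi1
  obtain ⟨g2, p2, q2, hp2, hq2, e2, s2, -⟩ := hout t htΦ htt ht1
  obtain ⟨g3, p3, q3, hp3, hq3, e3, s3, -⟩ := hout (i * t) hitΦ hit2 hit1
  let O : ℕ → ℕ → Set G := fun p q =>
    Set.range fun z : (T : Subgroup G) => (z : G) * (a ^ p * u ^ q) * (z : G)⁻¹
  have hdisj : ∀ {x y g g' : G} {p q p' q' : ℕ}, x ∈ closure {a ^ 2, u ^ 2} → x * x = 1 →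
      y ∈ closure {a ^ 2, u ^ 2} → x ≠ y → g * x * g⁻¹ = a ^ p * u ^ q → g' * y * g'⁻¹ = a ^ p' * u ^ q' →
      Disjoint (O p q) (O p' q') := by
    intro x y g g' p q p' q' hx hx2 hy hne he he'
    rw [Set.disjoint_left]
    rintro c ⟨z, rfl⟩ ⟨z', hz'⟩
    simp only at hz'
    rw [← he, ← he'] at hz'
    have hy' : (g'⁻¹ * (z' : G)⁻¹ * (z : G) * g) * x * (g'⁻¹ * (z' : G)⁻¹ * (z : G) * g)⁻¹ = y := by
      calc _ = g'⁻¹ * (z' : G)⁻¹ * ((z : G) * (g * x * g⁻¹) * (z : G)⁻¹) * z' * g' := by group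
        _ = g'⁻¹ * (z' : G)⁻¹ * ((z' : G) * (g' * y * g'⁻¹) * (z' : G)⁻¹) * z' * g' := by rw [hz']
        _ = y := by group
    exact hne ((hL x hx hx2 _ (hy'.symm ▸ hy)).symm.trans hy')
  let K : Set G := (fun m => a * u * m) '' (closure {a ^ 2, u ^ 2} : Subgroup G)
  have hsub : ∀ p q, Odd p → Odd q → (a ^ p * u ^ q) * (a ^ p * u ^ q) = 1 → O p q ⊆ K := by
    intro p q hp hq hs2 c ⟨z, hz⟩
    subst hz
    refine ⟨(a * u)⁻¹ * ((z : G) * (a ^ p * u ^ q) * (z : G)⁻¹), ?_, mul_inv_cancel_left _ _⟩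
    have h2 : (z : G) * (a ^ p * u ^ q) * (z : G)⁻¹ ∉ closure {a ^ 2, u ^ 2} := fun h => by
      have h' := f.normal' (inv_mem z.2) h
      rw [show (z : G)⁻¹ * ((z : G) * (a ^ p * u ^ q) * (z : G)⁻¹) * (z : G)⁻¹⁻¹ = a ^ p * u ^ q by group] at h'
      exact Nat.not_even_iff_odd.2 hp (f.even_iff.1 h').1
    obtain ⟨p', q', hp', hq', e⟩ := odd_odd T f hnc (mul_mem (mul_mem z.2 (f.mk_mem p q)) (inv_mem z.2))
      (by rw [show (z : G) * (a ^ p * u ^ q) * (z : G)⁻¹ * ((z : G) * (a ^ p * u ^ q) * (z : G)⁻¹)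
        = (z : G) * (a ^ p * u ^ q * (a ^ p * u ^ q)) * (z : G)⁻¹ by group, hs2]; group) h2
    rw [Nat.odd_iff] at hp' hq'
    simp only [SetLike.mem_coe, e]
    simpa using f.same_class (x := 1) (y := 1) (x' := p') (y' := q') (by omega) (by omega)
  have hK : K.ncard = 2 ^ (α + 1 + (β + 1)) := by
    rw [Set.ncard_image_of_injective _ fun m m' h => mul_left_cancel h, ← Nat.card_coe_set_eq]
    show Nat.card ↥(closure {a ^ 2, u ^ 2} : Subgroup G) = _
    have := (f.sub (k := 1) (l := 1) (by omega) (by omega)).1.card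
    simpa using this
  have h12 := hdisj hiΦ hii htΦ (fun h => hnc 1 (by simpa using h)) e1 e2
  have h13 := hdisj hiΦ hii hitΦ (fun h => ht1 (mul_eq_left.1 h.symm)) e1 e3
  have h23 := hdisj htΦ htt hitΦ (fun h => hi1 (mul_eq_right.1 h.symm)) e2 e3
  have hu : (O p1 q1 ∪ O p2 q2 ∪ O p3 q3).ncard ≤ K.ncard := Set.ncard_le_ncard (Set.union_subset
    (Set.union_subset (hsub _ _ hp1 hq1 s1) (hsub _ _ hp2 hq2 s2)) (hsub _ _ hp3 hq3 s3))
  rw [Set.ncard_union_eq (Disjoint.union_left h13 h23), Set.ncard_union_eq h12, hK] at hu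
  have k1 := card_le_orbit f hp1 hq1 s1 (hfour _ _ hp1 hq1)
  have k2 := card_le_orbit f hp2 hq2 s2 (hfour _ _ hp2 hq2)
  have k3 := card_le_orbit f hp3 hq3 s3 (hfour _ _ hp3 hq3)
  simp only [O] at hu
  rw [f.card, show α + 2 + (β + 2) = α + 1 + (β + 1) + 2 by ring, pow_add 2 (α + 1 + (β + 1)) 2] at k1 k2 k3
  have hpos : 0 < 2 ^ (α + 1 + (β + 1)) := by positivity
  omega

/-- Two factors of order at least four give an isolated involution. -/
theorem two_case (T : Sylow 2 G) (f : Fac (T : Subgroup G) a u (α + 2) (β + 2))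
    (hnc : ∀ g, g * a ^ 2 ^ (α + 1) * g⁻¹ ≠ u ^ 2 ^ (β + 1)) : ∃ z : G, IsIsolatedInvolution z := by
  have hnc' : ∀ g, g * u ^ 2 ^ (β + 1) * g⁻¹ ≠ a ^ 2 ^ (α + 1) := fun g h => hnc g⁻¹ (by rw [← h]; group)
  by_cases hui : u * a ^ 2 ^ (α + 1) * u⁻¹ = a ^ 2 ^ (α + 1)
  · by_cases hta : a * u ^ 2 ^ (β + 1) * a⁻¹ = u ^ 2 ^ (β + 1)
    · exact central_case T f hnc hta hui
    · exact ⟨_, noncentral_case T f.symm hnc' hui hta⟩
  · exact ⟨_, noncentral_case T f hnc (f.central_it.resolve_right hui) hui⟩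

end Cfsg.Lib.CyclicZ
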