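import Cfsg.Agent.Lib.CyclicZ.Pair
import Mathlib.GroupTheory.QuotientGroup.Basic

/-!
# Inside a product of two cyclic 2-groups

The two involutions `i ∈ ⟨a⟩`, `t ∈ ⟨u⟩` commute and one of them is central; the elements of fourth
power one in the Frattini subgroup form an abelian group.
-/

set_option autoImplicit false
set_option linter.unusedSectionVars false
set_option linter.style.haveILetI false

namespace Cfsg.Lib.CyclicZ

open Subgroup

variable {G : Type*} [Group G] [Finite G] {H : Subgroup G} {a u : G} {α β : ℕ}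

theorem Fac.pow_eq_one_iff (f : Fac H a u α β) {x : ℕ} : a ^ x = 1 ↔ 2 ^ α ∣ x := by
  rw [← f.ha, orderOf_dvd_iff_pow_eq_one]

theorem Fac.invol_pow (f : Fac H a u α (β + 1)) {x : ℕ} (h : (u ^ x) ^ 2 = 1) :
    u ^ x = 1 ∨ u ^ x = u ^ 2 ^ β := by
  rw [← pow_mul, f.symm.pow_eq_one_iff, pow_succ] at h
  obtain ⟨r, rfl⟩ := Nat.dvd_of_mul_dvd_mul_right two_pos h
  rcases Nat.even_or_odd r with ⟨s, rfl⟩ | ⟨s, rfl⟩
  · left
    exact f.symm.pow_eq_one_iff.2 ⟨s, by ring⟩
  · right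
    rw [show 2 ^ β * (2 * s + 1) = 2 ^ (β + 1) * s + 2 ^ β by ring, pow_add,
      f.symm.pow_eq_one_iff.2 (dvd_mul_right _ _), one_mul]

/-- The involution of one factor normalises the other. -/
theorem Fac.conj_right (f : Fac H a u (α + 1) β) :
    ∃ x, a ^ 2 ^ α * u * (a ^ 2 ^ α)⁻¹ = u ^ x := by
  have g := (f.sub (k := α) (l := 0) (by omega) (Nat.zero_le _)).1
  simp only [pow_zero, pow_one, Nat.sub_zero, show α + 1 - α = 1 by omega] at g
  obtain ⟨h, -, hn⟩ := g.symm.half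
  obtain ⟨x, y, hxy⟩ := h.gen _ (hn _ g.left _ h.left)
  refine ⟨x, hxy.trans ?_⟩
  rw [← pow_mul, ← pow_mul, f.pow_eq_one_iff.2 ⟨y, by ring⟩, mul_one]

/-- The two involutions commute. -/
theorem Fac.comm_it (f : Fac H a u (α + 1) (β + 1)) : Commute (a ^ 2 ^ α) (u ^ 2 ^ β) := by
  obtain ⟨x, hx⟩ := f.conj_right
  have h : a ^ 2 ^ α * u ^ 2 ^ β * (a ^ 2 ^ α)⁻¹ = u ^ (x * 2 ^ β) := by
    rw [← conj_pow, hx, ← pow_mul]
  have ht : u ^ 2 ^ β ≠ 1 := fun e => by
    have := (f.symm.pow_eq_one_iff.1 e)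
    exact absurd (Nat.le_of_dvd (by positivity) this) (by
      have : 0 < 2 ^ β := by positivity
      rw [pow_succ]; omega)
  have h2 : (u ^ (x * 2 ^ β)) ^ 2 = 1 := by
    rw [← h, conj_pow, ← pow_mul, f.symm.pow_eq_one_iff.2 (by rw [pow_succ]), mul_one, mul_inv_cancel]
  rcases f.invol_pow h2 with e | e
  · rw [e] at h
    exact absurd (conj_eq_one_iff.1 h) ht
  · rw [e] at h
    exact mul_inv_eq_iff_eq_mul.1 h

/-- The involution of `⟨u⟩` centralises `a` or multiplies it by the involution of `⟨a⟩`. -/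
theorem Fac.conj_t (f : Fac H a u (α + 2) (β + 2)) :
    u ^ 2 ^ (β + 1) * a * (u ^ 2 ^ (β + 1))⁻¹ = a ∨
      u ^ 2 ^ (β + 1) * a * (u ^ 2 ^ (β + 1))⁻¹ = a * a ^ 2 ^ (α + 1) := by
  set t := u ^ 2 ^ (β + 1)
  set a4 := a ^ 2 ^ α with ha4
  set w := u ^ 2 ^ β
  set i := a ^ 2 ^ (α + 1) with hi
  have hit : Commute i t := f.comm_it
  obtain ⟨l, hl⟩ := f.symm.conj_right (α := β + 1)
  have ha44 : a4 ^ 2 = i := by rw [← pow_mul, ← pow_succ]
  have ho : orderOf a4 = 4 := by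
    rw [orderOf_pow_of_dvd (by positivity) (by rw [f.ha]; exact pow_dvd_pow 2 (by omega)), f.ha,
      Nat.pow_div (by omega) two_pos, show α + 2 - α = 2 by omega]; rfl
  have htt : t * t = 1 := by
    rw [← pow_add, ← two_mul, ← pow_succ']; exact (f.hu ▸ pow_orderOf_eq_one u)
  have hti : t * i * t⁻¹ = i := by rw [← hit.eq, mul_inv_cancel_right]
  have h4 : t * a4 * t⁻¹ = a4 ^ l := by
    rw [ha4, ← conj_pow, hl, ← pow_mul, ← pow_mul, mul_comm]
  have hodd : Odd l := by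
    rcases Nat.even_or_odd l with ⟨r, rfl⟩ | h
    swap
    · exact h
    exfalso
    have h1 : i = a4 ^ ((r + r) * 2) := by rw [← hti, ← ha44, ← conj_pow, h4, ← pow_mul]
    rw [show (r + r) * 2 = 4 * r by ring, pow_mul, ← ho, pow_orderOf_eq_one, one_pow] at h1
    have := (f.pow_eq_one_iff.1 h1)
    exact absurd (Nat.le_of_dvd (by positivity) this) (by
      have : 0 < 2 ^ (α + 1) := by positivity
      rw [pow_succ 2 (α + 1)]; omega)
  have hc : t * a4 * t⁻¹ = a4 := by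
    by_contra hne
    -- then `⟨a4, t⟩` is dihedral and `w` inverts or fixes `a4`
    have hinv : t * a4 * t⁻¹ = a4⁻¹ := by
      obtain ⟨r, rfl⟩ := hodd
      rcases Nat.even_or_odd r with ⟨s, rfl⟩ | ⟨s, rfl⟩
      · exfalso
        apply hne
        rw [h4, show 2 * (s + s) + 1 = 4 * s + 1 by ring, pow_succ, pow_mul, ← ho, pow_orderOf_eq_one,
          one_pow, one_mul]
      · rw [h4, show 2 * (2 * s + 1) + 1 = 4 * s + 3 by ring, pow_add, pow_mul, ← ho, pow_orderOf_eq_one,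
          one_pow, one_mul]
        refine eq_inv_of_mul_eq_one_left ?_
        rw [← pow_succ, show (3 : ℕ) + 1 = orderOf a4 from ho.symm, pow_orderOf_eq_one]
    have g := (f.sub (k := α) (l := β) (by omega) (by omega)).1
    rw [show α + 2 - α = 2 by omega, show β + 2 - β = 1 + 1 by omega] at g
    obtain ⟨h, -, hn⟩ := g.half
    have hw2 : w ^ 2 = t := by rw [← pow_mul, ← pow_succ]
    obtain ⟨p, q, hpq⟩ := h.gen _ (hn _ g.right _ h.left)
    rw [hw2] at hpq
    have hwp : w * a4 * w⁻¹ = a4 ^ p := by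
      rcases Nat.even_or_odd q with ⟨r, rfl⟩ | ⟨r, rfl⟩
      · rw [hpq, ← two_mul, pow_mul, pow_two, htt, one_pow, mul_one]
      · exfalso
        rw [pow_succ, pow_mul, pow_two t, htt, one_pow, one_mul] at hpq
        have hp : (a4 ^ p * t) ^ 2 = 1 := by
          have e : t * a4 ^ p * t⁻¹ = (a4 ^ p)⁻¹ := by rw [← conj_pow, hinv, inv_pow]
          rw [pow_two, mul_assoc, ← mul_assoc t, show t * a4 ^ p * t = t * a4 ^ p * t⁻¹ * (t * t) by group, htt,
            mul_one, e, mul_inv_cancel]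
        rw [← hpq, conj_pow, conj_eq_one_iff, ha44] at hp
        have := (f.pow_eq_one_iff.1 hp)
        exact absurd (Nat.le_of_dvd (by positivity) this) (by
          have : 0 < 2 ^ (α + 1) := by positivity
          rw [pow_succ 2 (α + 1)]; omega)
    apply hne
    rw [← hw2, show w ^ 2 * a4 * (w ^ 2)⁻¹ = w * (w * a4 * w⁻¹) * w⁻¹ by simp only [pow_two, mul_inv_rev, mul_assoc], hwp, ← conj_pow, hwp, ← pow_mul]
    rcases Nat.even_or_odd p with ⟨r, rfl⟩ | ⟨r, rfl⟩
    · exfalso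
      have h1 : w * i * w⁻¹ = 1 := by
        rw [← ha44, ← conj_pow, hwp, ← pow_mul, show (r + r) * 2 = 4 * r by ring, pow_mul, ← ho,
          pow_orderOf_eq_one, one_pow]
      have := (f.pow_eq_one_iff.1 (conj_eq_one_iff.1 h1))
      exact absurd (Nat.le_of_dvd (by positivity) this) (by
        have : 0 < 2 ^ (α + 1) := by positivity
        rw [pow_succ 2 (α + 1)]; omega)
    · rw [show (2 * r + 1) * (2 * r + 1) = 4 * (r * r + r) + 1 by ring, pow_succ, pow_mul, ← ho,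
        pow_orderOf_eq_one, one_pow, one_mul]
  obtain ⟨r, hr⟩ : 4 ∣ l - 1 := by
    have h1 : a4 ^ (l - 1) = 1 := by
      have h2 : a4 ^ (l - 1) * a4 = 1 * a4 := by
        rw [← pow_succ, Nat.sub_add_cancel hodd.pos, ← h4, hc, one_mul]
      exact mul_right_cancel h2
    rw [← orderOf_dvd_iff_pow_eq_one, ho] at h1
    exact h1
  have hl' : l = 4 * r + 1 := by have := hodd.pos; omega
  have hll : a ^ (l * l) = a := by
    rw [pow_mul, ← hl, conj_pow, ← hl, show t * (t * a * t⁻¹) * t⁻¹ = (t * t) * a * (t * t)⁻¹ by group, htt]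
    simp
  have h8 : a ^ (8 * r) = 1 := by
    have h1 : a ^ (8 * r * (2 * r + 1)) = 1 := by
      have h2 : a ^ (8 * r * (2 * r + 1)) * a = 1 * a := by
        rw [← pow_succ, one_mul, show 8 * r * (2 * r + 1) + 1 = l * l by rw [hl']; ring, hll]
      exact mul_right_cancel h2
    rw [f.pow_eq_one_iff] at h1 ⊢
    exact (Nat.Coprime.pow_left _ (Nat.coprime_two_left.2 (odd_two_mul_add_one r))).dvd_of_dvd_mul_right h1
  rcases f.symm.invol_pow (β := α + 1) (x := 4 * r) (by rw [← pow_mul, show 4 * r * 2 = 8 * r by ring, h8]) with e | e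
  · left; rw [hl, hl', pow_succ, e, one_mul]
  · right; rw [hl, hl', pow_succ', e]

/-- One of the two involutions is central. -/
theorem Fac.central_it (f : Fac H a u (α + 2) (β + 2)) :
    a * u ^ 2 ^ (β + 1) * a⁻¹ = u ^ 2 ^ (β + 1) ∨ u * a ^ 2 ^ (α + 1) * u⁻¹ = a ^ 2 ^ (α + 1) := by
  have h1 := f.conj_t
  have h2 := f.symm.conj_t
  set t := u ^ 2 ^ (β + 1)
  set i := a ^ 2 ^ (α + 1)
  have hit : Commute i t := f.comm_it
  have hai : Commute a i := Commute.self_pow a _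
  have hut : Commute u t := Commute.self_pow u _
  have hii : i * i = 1 := by
    rw [← pow_add, ← two_mul, ← pow_succ']; exact (f.ha ▸ pow_orderOf_eq_one a)
  have htt : t * t = 1 := by
    rw [← pow_add, ← two_mul, ← pow_succ']; exact (f.hu ▸ pow_orderOf_eq_one u)
  rcases h1 with h1 | h1
  · left
    conv_lhs => rw [mul_inv_eq_iff_eq_mul.1 h1 |>.symm]
    rw [mul_inv_cancel_right]
  rcases h2 with h2 | h2
  · right
    conv_lhs => rw [mul_inv_eq_iff_eq_mul.1 h2 |>.symm]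
    rw [mul_inv_cancel_right]
  exfalso
  have e1 : a * t * a⁻¹ = i * t := by
    have h : t * a = a * i * t := mul_inv_eq_iff_eq_mul.1 h1
    rw [mul_inv_eq_iff_eq_mul, mul_assoc i, h, ← mul_assoc i, ← mul_assoc i, ← hai.eq, mul_assoc a i i, hii,
      mul_one]
  have e2 : u * i * u⁻¹ = t * i := by
    have h : i * u = u * t * i := mul_inv_eq_iff_eq_mul.1 h2
    rw [mul_inv_eq_iff_eq_mul, mul_assoc t, h, ← mul_assoc t, ← mul_assoc t, ← hut.eq, mul_assoc u t t, htt,
      mul_one]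
  set g := a * u
  have g1 : g * i * g⁻¹ = t := by
    rw [show g * i * g⁻¹ = a * (u * i * u⁻¹) * a⁻¹ by simp only [g, mul_inv_rev, mul_assoc], e2,
      show a * (t * i) * a⁻¹ = (a * t * a⁻¹) * (a * i * a⁻¹) by group, e1, hai.eq, mul_inv_cancel_right, hit.eq,
      mul_assoc, hii, mul_one]
  have g2 : g * t * g⁻¹ = i * t := by
    rw [show g * t * g⁻¹ = a * (u * t * u⁻¹) * a⁻¹ by simp only [g, mul_inv_rev, mul_assoc], hut.eq, mul_inv_cancel_right, e1]
  have g3 : Commute (g ^ 3) i := by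
    rw [Commute, SemiconjBy, ← mul_inv_eq_iff_eq_mul,
      show g ^ 3 * i * (g ^ 3)⁻¹ = g * (g * (g * i * g⁻¹) * g⁻¹) * g⁻¹ by
        simp only [pow_succ, pow_zero, one_mul, mul_inv_rev, mul_assoc], g1, g2,
      show g * (i * t) * g⁻¹ = (g * i * g⁻¹) * (g * t * g⁻¹) by group, g1, g2, hit.eq, ← mul_assoc, htt, one_mul]
  haveI : Fact (Nat.Prime 2) := ⟨Nat.prime_two⟩
  obtain ⟨m, hm⟩ := IsPGroup.iff_orderOf.1 f.isPGroup ⟨g, mul_mem f.left f.right⟩
  rw [Subgroup.orderOf_mk] at hm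
  obtain ⟨n, hn⟩ := exists_pow_eq_self_of_coprime (n := 3) (x := g)
    (by rw [hm]; exact Nat.Coprime.pow_right _ (by norm_num))
  have hgi : Commute g i := hn ▸ g3.pow_left n
  rw [hgi.eq, mul_inv_cancel_right] at g1
  have hone : a ^ 2 ^ (α + 1) * u ^ 0 = a ^ 0 * u ^ 2 ^ (β + 1) := by simpa using g1
  obtain ⟨-, h0⟩ := f.uniq hone
  exact absurd (Nat.le_of_dvd (by positivity) (Nat.modEq_zero_iff_dvd.1 h0.symm)) (by
    have : 0 < 2 ^ (β + 1) := by positivity
    rw [pow_succ 2 (β + 1)]; omega)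

end Cfsg.Lib.CyclicZ
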