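import Cfsg.Agent.Lib.GW.PGL

/-!
# Elements of `p`-power order of `PSL₂(q)`

They have order dividing `p`, and the nontrivial ones commute with no involution inducing an
inner-diagonal automorphism.
-/

set_option autoImplicit false
set_option linter.style.haveILetI false

namespace Cfsg.Lib.CyclicZ

open Subgroup Matrix Cfsg.Lib.Linear.AutPSL Cfsg.Lib.Linear.Descent Cfsg.Lib.GW.PGL

universe u

variable {F : Type} [Field F] [Fintype F] {p : ℕ} [Fact p.Prime] [CharP F p]

local notation "PSL2" => Matrix.ProjectiveSpecialLinearGroup (Fin 2) F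

/-- A lift with nilpotent difference from one. -/
theorem exists_lift (hp : Odd p) {k : ℕ} (y : PSL2) (hy : y ^ p ^ k = 1) :
    ∃ s : Matrix.SpecialLinearGroup (Fin 2) F, (QuotientGroup.mk s : PSL2) = y ∧
      (s.1 - 1) * (s.1 - 1) = 0 ∧ s ^ p = 1 := by
  obtain ⟨s, rfl⟩ := QuotientGroup.mk_surjective y
  rw [← QuotientGroup.mk_pow, QuotientGroup.eq_one_iff] at hy
  set z := s ^ p ^ k with hz
  obtain ⟨r, hr, hrz⟩ := Matrix.SpecialLinearGroup.mem_center_iff.1 hy
  rw [Fintype.card_fin] at hr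
  have hz2 : z * z = 1 := Subtype.ext (by
    show z.1 * z.1 = 1
    rw [← hrz, ← map_mul, ← pow_two, hr, map_one])
  have hzm : (QuotientGroup.mk z : PSL2) = 1 := (QuotientGroup.eq_one_iff _).2 hy
  have hcomm : Commute s z := Commute.self_pow s _
  refine ⟨s * z, ?_, ?_⟩
  · rw [show (QuotientGroup.mk (s * z) : PSL2) = QuotientGroup.mk s * QuotientGroup.mk z from rfl, hzm, mul_one]
  have hsz : (s * z) ^ p ^ k = 1 := by
    obtain ⟨m, hm⟩ := hp.pow (n := k)
    have hzpow : z ^ p ^ k = z := by rw [hm, pow_succ, pow_mul, pow_two, hz2, one_pow, one_mul]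
    rw [hcomm.mul_pow, hzpow, ← hz, hz2]
  set X : Matrix (Fin 2) (Fin 2) F := (s * z).1 with hX
  haveI : CharP (Matrix (Fin 2) (Fin 2) F) p := inferInstance
  have hXp : ∀ n, ((s * z) ^ n).1 = X ^ n := fun n => by simp [X]
  have hN : IsNilpotent (X - 1) := ⟨p ^ k, by
    rw [sub_pow_char_pow_of_commute p k (Commute.one_right X), one_pow, ← hXp, hsz]
    exact sub_self 1⟩
  have htr : (X - 1).trace = 0 := (Matrix.isNilpotent_trace_of_isNilpotent hN).eq_zero
  have hdet : (X - 1).det = 0 := IsNilpotent.eq_zero (by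
    obtain ⟨n, hn⟩ := hN
    refine ⟨n + 1, ?_⟩
    rw [← Matrix.det_pow, pow_succ, hn, zero_mul]
    exact Matrix.det_zero)
  have hsq : (X - 1) * (X - 1) = 0 := by
    rw [Matrix.trace_fin_two] at htr
    rw [Matrix.det_fin_two] at hdet
    ext i j
    fin_cases i <;> fin_cases j <;>
      simp only [Matrix.mul_apply, Fin.sum_univ_two, Matrix.zero_apply, Fin.zero_eta, Fin.mk_one] <;>
      generalize (X - 1) 0 0 = x0 at * <;> generalize (X - 1) 0 1 = x1 at * <;>
      generalize (X - 1) 1 0 = x2 at * <;> generalize (X - 1) 1 1 = x3 at * <;>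
      first
        | linear_combination x0 * htr - hdet
        | linear_combination x1 * htr
        | linear_combination x2 * htr
        | linear_combination x3 * htr - hdet
  refine ⟨hsq, Subtype.ext ?_⟩
  show ((s * z) ^ p).1 = 1
  rw [hXp, show X = (X - 1) + 1 by abel, add_pow_char_of_commute p (Commute.one_right _), one_pow,
    show p = (p - 2) + 2 by have := (Fact.out : p.Prime).two_le; omega, pow_add, pow_two, hsq, mul_zero, zero_add]

/-- Elements of `p`-power order have order dividing `p`. -/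
theorem pow_char_eq_one (hp : Odd p) {k : ℕ} (y : PSL2) (hy : y ^ p ^ k = 1) : y ^ p = 1 := by
  obtain ⟨s, rfl, -, hs⟩ := exists_lift hp y hy
  rw [← QuotientGroup.mk_pow, hs]
  rfl

/-- A nontrivial `p`-element of `E` does not commute with an involution of `diag`. -/
theorem not_commute_involution {X : Type u} [Group X] [Finite X] {E : Subgroup X} [E.Normal] (e : E ≃* PSL2)
    (hC : centralizer (E : Set X) = ⊥) (hp : Odd p) {x : X} (hx : x * x = 1) (hx1 : x ≠ 1) (hxd : x ∈ diag e)
    {y : X} (hy : y ∈ E) (hy1 : y ≠ 1) {k : ℕ} (hyp : y ^ p ^ k = 1) : ¬ Commute x y := by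
  intro hc
  obtain ⟨A, hA⟩ : autHom e x ∈ (innd : GL (Fin 2) F →* MulAut PSL2).range := hxd
  obtain ⟨s, hs, hsq, hsp⟩ := exists_lift hp (k := k) (e ⟨y, hy⟩) (by
    rw [← map_pow, show (⟨y, hy⟩ : E) ^ p ^ k = 1 from Subtype.ext (by simpa using hyp), map_one])
  have hfix : (innd A : MulAut PSL2) (QuotientGroup.mk s) = QuotientGroup.mk s := by
    rw [hA, hs, autHom_apply, e.symm_apply_apply]
    refine congrArg e (Subtype.ext ?_)
    rw [MulAut.conjNormal_apply]
    show x * y * x⁻¹ = y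
    rw [hc.eq, mul_inv_cancel_right]
  rw [innd_mk, QuotientGroup.eq] at hfix
  set w := (cnjHom A s)⁻¹ * s with hw
  obtain ⟨r, hr, hrw⟩ := Matrix.SpecialLinearGroup.mem_center_iff.1 hfix
  rw [Fintype.card_fin] at hr
  have hw2 : w * w = 1 := Subtype.ext (by
    show w.1 * w.1 = 1
    rw [← hrw, ← map_mul, ← pow_two, hr, map_one])
  have hw1 : w = 1 := by
    obtain ⟨m, hm⟩ := hp
    have h2 : w ^ p = w := by rw [hm, pow_succ, pow_mul, pow_two, hw2, one_pow, one_mul]
    have hcs : Commute ((cnjHom A s)⁻¹) s := by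
      rw [show s = cnjHom A s * w by rw [hw, mul_inv_cancel_left]]
      nth_rewrite 1 [show cnjHom A s * w = s by rw [hw, mul_inv_cancel_left]]
      exact ((Commute.refl _).inv_left).mul_right ((mem_center_iff.1 hfix _ : _))
    rw [← h2, hw, hcs.mul_pow, inv_pow, ← map_pow, hsp, map_one, inv_one, one_mul]
  have hcs : cnjHom A s = s := inv_mul_eq_one.1 hw1
  have hAN : A.val * (s.1 - 1) = (s.1 - 1) * A.val := by
    have h := congrArg (fun M : Matrix (Fin 2) (Fin 2) F => M * A.val) (congrArg Subtype.val hcs)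
    simp only [cnjHom_coe] at h
    rw [mul_assoc, Units.inv_mul, mul_one] at h
    rw [mul_sub, sub_mul, h, mul_one, one_mul]
  obtain ⟨c, hc2⟩ := (innd_eq_one_iff le_rfl).1 (show (innd (A * A) : MulAut PSL2) = 1 by
    rw [map_mul, hA, ← map_mul, hx, map_one])
  have hne : ∀ c : Fˣ, A ≠ sc c := fun c hc' => hx1 (autHom_injective e hC (by
    rw [← hA, hc', innd_sc, map_one]))
  have hc' : A.val * A.val = (c : F) • (1 : Matrix (Fin 2) (Fin 2) F) := by
    rw [← Units.val_mul, hc2, sc_val]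
  have hN : s.1 - 1 ≠ 0 := fun h => hy1 (by
    have h1 : s = 1 := Subtype.ext (sub_eq_zero.1 h)
    have h2 : e ⟨y, hy⟩ = 1 := by rw [← hs, h1]; rfl
    exact congrArg Subtype.val (e.map_eq_one_iff.1 h2))
  set M := A.val with hM
  set N := s.1 - 1
  have e00 := congrFun (congrFun hc' 0) 0
  have e01 := congrFun (congrFun hc' 0) 1
  have e10 := congrFun (congrFun hc' 1) 0
  have e11 := congrFun (congrFun hc' 1) 1
  simp [Matrix.mul_apply, Fin.sum_univ_two] at e00 e01 e10 e11
  have htr : M 1 1 = -M 0 0 := by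
    by_contra htr
    have hs0 : M 0 0 + M 1 1 ≠ 0 := fun h => htr (by linear_combination h)
    have h01 : M 0 1 = 0 := (mul_eq_zero.1 (by linear_combination e01 : (M 0 0 + M 1 1) * M 0 1 = 0)).resolve_left hs0
    have h10 : M 1 0 = 0 := (mul_eq_zero.1 (by linear_combination e10 : (M 0 0 + M 1 1) * M 1 0 = 0)).resolve_left hs0
    have hd : M 0 0 = M 1 1 := sub_eq_zero.1 ((mul_eq_zero.1 (by
      linear_combination e00 - e11 : (M 0 0 + M 1 1) * (M 0 0 - M 1 1) = 0)).resolve_left hs0)
    have h00 : M 0 0 ≠ 0 := fun h => hs0 (by rw [← hd, h, add_zero])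
    refine hne (Units.mk0 _ h00) (Units.ext ?_)
    rw [sc_val, ← hM, Units.val_mk0]
    ext i j
    fin_cases i <;> fin_cases j <;> simp [h01, h10, hd]
  have h2 : (2 : F) ≠ 0 := fun h => by
    have hd : p ∣ 2 := (CharP.cast_eq_zero_iff F p 2).1 (by exact_mod_cast h)
    rw [(Nat.prime_dvd_prime_iff_eq (Fact.out : p.Prime) Nat.prime_two).1 hd] at hp
    exact absurd hp (by decide)
  have n00 := congrFun (congrFun hsq 0) 0
  have n01 := congrFun (congrFun hsq 0) 1
  have n10 := congrFun (congrFun hsq 1) 0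
  have n11 := congrFun (congrFun hsq 1) 1
  have a00 := congrFun (congrFun hAN 0) 0
  have a01 := congrFun (congrFun hAN 0) 1
  have a10 := congrFun (congrFun hAN 1) 0
  simp only [Matrix.mul_apply, Fin.sum_univ_two, Matrix.zero_apply, htr] at n00 n01 n10 n11 a00 a01 a10
  have hdet : M 0 0 * M 0 0 + M 0 1 * M 1 0 ≠ 0 := fun h => c.ne_zero (by linear_combination h - e00)
  by_cases hb : N 0 1 = 0
  · have hd0 : N 0 0 = 0 := mul_self_eq_zero.1 (by linear_combination n00 - N 1 0 * hb)
    have hd1 : N 1 1 = 0 := mul_self_eq_zero.1 (by linear_combination n11 - N 1 0 * hb)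
    have hc0 : N 1 0 ≠ 0 := fun h => hN (by ext i j; fin_cases i <;> fin_cases j <;> assumption)
    have hm01 : M 0 1 = 0 := (mul_eq_zero.1 (by linear_combination a00 + M 1 0 * hb :
      M 0 1 * N 1 0 = 0)).resolve_right hc0
    have hm00 : M 0 0 = 0 := (mul_eq_zero.1 (by
      linear_combination -a10 + M 1 0 * hd0 - M 1 0 * hd1 : (2 * N 1 0) * M 0 0 = 0)).resolve_left
      (mul_ne_zero h2 hc0)
    exact hdet (by rw [hm00, hm01]; ring)
  · have hN11 : N 1 1 = -N 0 0 := by
      have := (mul_eq_zero.1 (by linear_combination n01 : N 0 1 * (N 0 0 + N 1 1) = 0)).resolve_left hb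
      linear_combination this
    rw [hN11] at a01
    have h1 : N 0 1 * M 0 0 = N 0 0 * M 0 1 := mul_left_cancel₀ h2 (by linear_combination a01)
    refine hdet ((mul_eq_zero.1 (?_ : (N 0 1 * N 0 1) * (M 0 0 * M 0 0 + M 0 1 * M 1 0) = 0)).resolve_left
      (mul_ne_zero hb hb))
    linear_combination (N 0 1 * M 0 0 + N 0 0 * M 0 1) * h1 + M 0 1 * M 0 1 * n00 - N 0 1 * M 0 1 * a00

end Cfsg.Lib.CyclicZ
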