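import Cfsg.Agent.Lib.CyclicZ.Dihedral
import Cfsg.Agent.Lib.CyclicZ.PSLTwo
import Cfsg.Agent.Lib.GW.DGroupDihedral
import Cfsg.Agent.Lib.GW.Main
import Cfsg.Agent.Lib.Linear.AutPO.Minus
import Mathlib.GroupTheory.SpecificGroups.ZGroup

/-!
# Products of a cyclic group and a group with cyclic Sylow subgroups

A finite group without solvable normal subgroups which is such a product is trivial, or `PGL₂(p)`.
-/

set_option autoImplicit false
set_option linter.style.haveILetI false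

namespace Cfsg.Lib.CyclicZ

open Subgroup Cfsg.Lib.Linear.AutPSL

universe v

variable {X : Type v} [Group X] [Finite X]

/-- A cyclic group and a group with cyclic Sylow subgroups, with product the whole group, meet trivially. -/
theorem inf_eq_bot (hM : ∀ N : Subgroup X, N.Normal → Group.IsSolvable N → N = ⊥) {A B : Subgroup X}
    [IsCyclic A] [IsZGroup B] (hAB : ∀ g : X, ∃ a ∈ A, ∃ b ∈ B, g = a * b) {x : X} (hxA : x ∈ A) (hxB : x ∈ B) :
    x = 1 := by
  have hle : normalClosure ({x} : Set X) ≤ B := by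
    refine (closure_le _).2 ?_
    intro y hy
    obtain ⟨x', hx', hc⟩ := Group.mem_conjugatesOfSet_iff.1 hy
    rw [Set.mem_singleton_iff] at hx'
    subst hx'
    obtain ⟨g, rfl⟩ := isConj_iff.1 hc
    obtain ⟨a, ha, b, hb, hg⟩ := hAB g⁻¹
    have hax : a⁻¹ * x' * a = x' := by
      have h : a * x' = x' * a := congrArg Subtype.val
        ((IsCyclic.isMulCommutative (α := A)).is_comm.comm ⟨a, ha⟩ ⟨x', hxA⟩)
      rw [mul_assoc, ← h, inv_mul_cancel_left]
    have : g * x' * g⁻¹ = b⁻¹ * x' * b := by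
      rw [← inv_inv g, hg]
      calc (a * b)⁻¹ * x' * (a * b)⁻¹⁻¹ = b⁻¹ * (a⁻¹ * x' * a) * b := by group
        _ = b⁻¹ * x' * b := by rw [hax]
    rw [SetLike.mem_coe, this]
    exact mul_mem (mul_mem (inv_mem hb) hxB) hb
  have hs : Group.IsSolvable (normalClosure ({x} : Set X)) := by
    haveI : IsZGroup (normalClosure ({x} : Set X) : Subgroup X) := IsZGroup.of_injective (inclusion_injective hle)
    infer_instance
  have h := hM _ inferInstance hs
  exact mem_bot.1 (h ▸ subset_normalClosure (Set.mem_singleton x))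

theorem card_mul (hM : ∀ N : Subgroup X, N.Normal → Group.IsSolvable N → N = ⊥) {A B : Subgroup X}
    [IsCyclic A] [IsZGroup B] (hAB : ∀ g : X, ∃ a ∈ A, ∃ b ∈ B, g = a * b) :
    Nat.card X = Nat.card A * Nat.card B := by
  rw [← Nat.card_prod]
  refine (Nat.card_eq_of_bijective (fun z : A × B => (z.1 : X) * z.2) ⟨?_, fun g => ?_⟩).symm
  · rintro ⟨a, b⟩ ⟨a', b'⟩ h
    simp only at h
    have h' : (a' : X)⁻¹ * a = b' * (b : X)⁻¹ := by
      rw [eq_mul_inv_iff_mul_eq, mul_assoc, h, inv_mul_cancel_left]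
    have h1 := inf_eq_bot hM hAB (mul_mem (inv_mem a'.2) a.2) (h' ▸ mul_mem b'.2 (inv_mem b.2))
    have ha : (a' : X) = a := inv_mul_eq_one.1 h1
    rw [ha] at h
    exact Prod.ext (Subtype.ext ha.symm) (Subtype.ext (mul_left_cancel h))
  · obtain ⟨a, ha, b, hb, rfl⟩ := hAB g
    exact ⟨(⟨a, ha⟩, ⟨b, hb⟩), rfl⟩

/-- The Sylow 2-subgroup. -/
theorem exists_fac (hM : ∀ N : Subgroup X, N.Normal → Group.IsSolvable N → N = ⊥) (hns : ¬ Group.IsSolvable X)
    {A B : Subgroup X} [IsCyclic A] [IsZGroup B] (hAB : ∀ g : X, ∃ a ∈ A, ∃ b ∈ B, g = a * b) :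
    ∃ (T : Sylow 2 X) (a u : X) (α β : ℕ), Fac (T : Subgroup X) a u (α + 1) (β + 1) ∧ a ∈ A ∧ u ∈ B := by
  haveI : Fact (Nat.Prime 2) := ⟨Nat.prime_two⟩
  obtain ⟨P⟩ : Nonempty (Sylow 2 A) := inferInstance
  obtain ⟨Q⟩ : Nonempty (Sylow 2 B) := inferInstance
  obtain ⟨T₀, hT₀⟩ := (P.2.map A.subtype).exists_le_sylow
  obtain ⟨c, hc⟩ := Invol.exists_conj_mem_sylow T₀ (Q.2.map B.subtype)
  obtain ⟨a0, ha0, b0, hb0, rfl⟩ := hAB c
  let T : Sylow 2 X := MulAut.conj a0⁻¹ • T₀
  have hT : ∀ z : X, a0 * z * a0⁻¹ ∈ (T₀ : Subgroup X) → z ∈ (T : Subgroup X) := fun z hz => by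
    have h := smul_mem_pointwise_smul _ (MulAut.conj a0⁻¹) _ hz
    simp only [MulAut.smul_def, MulAut.conj_apply] at h
    rwa [show a0⁻¹ * (a0 * z * a0⁻¹) * a0⁻¹⁻¹ = z by group] at h
  obtain ⟨⟨a, haP⟩, ha⟩ := IsCyclic.exists_generator (α := (P : Subgroup A))
  obtain ⟨⟨u0, hu0⟩, hu⟩ := IsCyclic.exists_generator (α := (Q : Subgroup B))
  have haA : (a : X) ∈ A := a.2
  set u : X := b0 * (u0 : X) * b0⁻¹
  have huB : u ∈ B := mul_mem (mul_mem hb0 u0.2) (inv_mem hb0)
  have haT : (a : X) ∈ (T : Subgroup X) := hT _ (by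
    have h : a0 * (a : X) = (a : X) * a0 := congrArg Subtype.val
      ((IsCyclic.isMulCommutative (α := A)).is_comm.comm ⟨a0, ha0⟩ a)
    rw [h, mul_inv_cancel_right]
    exact hT₀ ⟨a, haP, rfl⟩)
  have huT : u ∈ (T : Subgroup X) := hT _ (by
    have h := hc _ ⟨u0, hu0, rfl⟩
    show a0 * (b0 * (u0 : X) * b0⁻¹) * a0⁻¹ ∈ _
    rw [show a0 * (b0 * (u0 : X) * b0⁻¹) * a0⁻¹ = a0 * b0 * (u0 : X) * (a0 * b0)⁻¹ by group]
    exact h)
  obtain ⟨α, hα⟩ := P.2.exists_card_eq
  obtain ⟨β, hβ⟩ := Q.2.exists_card_eq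
  have hoa : orderOf (a : X) = 2 ^ α := by
    rw [← hα, ← orderOf_eq_card_of_forall_mem_zpowers ha, Subgroup.orderOf_mk, Subgroup.orderOf_coe]
  have hou : orderOf u = 2 ^ β := by
    rw [show u = b0 * (u0 : X) * b0⁻¹ from rfl, Invol.orderOf_conj_eq, ← hβ,
      ← orderOf_eq_card_of_forall_mem_zpowers hu, Subgroup.orderOf_mk, Subgroup.orderOf_coe]
  have hcard : Nat.card (T : Subgroup X) = 2 ^ (α + β) := by
    rw [T.card_eq_multiplicity, card_mul hM hAB, Nat.factorization_mul Nat.card_pos.ne' Nat.card_pos.ne',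
      Finsupp.add_apply, pow_add, pow_add, ← P.card_eq_multiplicity, ← Q.card_eq_multiplicity, hα, hβ]
  have hinj : Function.Injective
      (fun z : zpowers (a : X) × zpowers u => (⟨(z.1 : X) * z.2, mul_mem (zpowers_le.2 haT z.1.2) (zpowers_le.2 huT z.2.2)⟩ : (T : Subgroup X))) := by
    rintro ⟨p, q⟩ ⟨p', q'⟩ h
    have h0 : (p : X) * q = p' * q' := congrArg Subtype.val h
    have h' : (p' : X)⁻¹ * p = q' * (q : X)⁻¹ := by
      rw [eq_mul_inv_iff_mul_eq, mul_assoc, h0, inv_mul_cancel_left]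
    have h1 := inf_eq_bot hM hAB (mul_mem (inv_mem (zpowers_le.2 haA p'.2)) (zpowers_le.2 haA p.2))
      (h' ▸ mul_mem (zpowers_le.2 huB q'.2) (inv_mem (zpowers_le.2 huB q.2)))
    have hp : (p' : X) = p := inv_mul_eq_one.1 h1
    rw [hp] at h0
    exact Prod.ext (Subtype.ext hp.symm) (Subtype.ext (mul_left_cancel h0))
  have hgen : ∀ g ∈ (T : Subgroup X), ∃ x y : ℕ, g = (a : X) ^ x * u ^ y := by
    intro g hg
    obtain ⟨⟨⟨p, hp⟩, ⟨q, hq⟩⟩, h⟩ := (hinj.bijective_of_nat_card_le (by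
      rw [Nat.card_prod, Nat.card_zpowers, Nat.card_zpowers, hoa, hou, hcard, pow_add])).2 ⟨g, hg⟩
    obtain ⟨x, rfl⟩ := (isOfFinOrder_of_finite (a : X)).mem_powers_iff_mem_zpowers.2 hp
    obtain ⟨y, rfl⟩ := (isOfFinOrder_of_finite u).mem_powers_iff_mem_zpowers.2 hq
    exact ⟨x, y, (congrArg Subtype.val h).symm⟩
  have hnc := GW.not_isCyclic_sylow hns T
  obtain ⟨α, rfl⟩ : ∃ α', α = α' + 1 := by
    refine ⟨α - 1, ?_⟩
    rcases Nat.eq_zero_or_pos α with rfl | h
    · refine absurd (isCyclic_of_orderOf_eq_card (⟨u, huT⟩ : (T : Subgroup X)) ?_) hnc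
      rw [Subgroup.orderOf_mk, hou, hcard, zero_add]
    · omega
  obtain ⟨β, rfl⟩ : ∃ β', β = β' + 1 := by
    refine ⟨β - 1, ?_⟩
    rcases Nat.eq_zero_or_pos β with rfl | h
    · refine absurd (isCyclic_of_orderOf_eq_card (⟨(a : X), haT⟩ : (T : Subgroup X)) ?_) hnc
      rw [Subgroup.orderOf_mk, hoa, hcard, add_zero]
    · omega
  exact ⟨T, a, u, α, β, ⟨hoa, hou, hcard, haT, huT, hgen⟩, haA, huB⟩

/-- There is a subgroup of index two. -/
theorem exists_odd_sign {A B : Subgroup X} [IsCyclic A] [IsZGroup B]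
    (hM : ∀ N : Subgroup X, N.Normal → Group.IsSolvable N → N = ⊥) (hns : ¬ Group.IsSolvable X)
    (hAB : ∀ g : X, ∃ a ∈ A, ∃ b ∈ B, g = a * b) : ∃ χ : X →* ℤˣ, ∃ x, χ x = -1 := by
  classical
  obtain ⟨T, a, u, α, β, f, haA, huB⟩ := exists_fac hM hns hAB
  haveI : Fact (Nat.Prime 2) := ⟨Nat.prime_two⟩
  haveI := Fintype.ofFinite (X ⧸ B)
  refine ⟨Equiv.Perm.sign.comp (MulAction.toPermHom X (X ⧸ B)), a, ?_⟩
  have hne : a ^ 2 ^ α ≠ 1 := fun h => by
    have h' := (Nat.pow_dvd_pow_iff_le_right (le_refl 2)).1 (f.pow_eq_one_iff.1 h)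
    omega
  have h1 : (MulAction.toPermHom X (X ⧸ B) a) ^ 2 ^ (α + 1) = 1 := by
    rw [← map_pow, ← f.ha, pow_orderOf_eq_one, map_one]
  obtain ⟨k, hk, hs⟩ := sign_free h1 fun z hz => by
    rw [← map_pow, MulAction.toPermHom_apply, MulAction.toPerm_apply] at hz
    obtain ⟨g, rfl⟩ := QuotientGroup.mk_surjective z
    rw [MulAction.Quotient.smul_mk, smul_eq_mul, eq_comm, QuotientGroup.eq] at hz
    obtain ⟨a', ha', b', hb', rfl⟩ := hAB g
    have hc : a'⁻¹ * a ^ 2 ^ α * a' = a ^ 2 ^ α := by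
      have h : a' * a ^ 2 ^ α = a ^ 2 ^ α * a' := congrArg Subtype.val
        ((IsCyclic.isMulCommutative (α := A)).is_comm.comm ⟨a', ha'⟩ ⟨a ^ 2 ^ α, pow_mem haA _⟩)
      rw [mul_assoc, ← h, inv_mul_cancel_left]
    have h2 := mul_mem (mul_mem hb' hz) (inv_mem hb')
    rw [show b' * ((a' * b')⁻¹ * (a ^ 2 ^ α * (a' * b'))) * b'⁻¹ = a'⁻¹ * a ^ 2 ^ α * a' by group, hc] at h2
    exact hne (inf_eq_bot hM hAB (pow_mem haA _) h2)
  show Equiv.Perm.sign _ = -1
  rw [hs]
  refine Odd.neg_one_pow ?_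
  have hi : B.index = Nat.card A := by
    have h := card_mul_index B
    rw [card_mul hM hAB, mul_comm (Nat.card A)] at h
    exact Nat.eq_of_mul_eq_mul_left Nat.card_pos h
  rw [← Nat.card_eq_fintype_card, ← index_eq_card, hi] at hk
  -- the 2-part of `A`
  rcases Nat.even_or_odd k with ⟨r, rfl⟩ | h
  swap
  · exact h
  exfalso
  have h2 : 2 ^ (α + 1 + (β + 1) + 1) ∣ Nat.card X := by
    rw [card_mul hM hAB, hk]
    have hu : 2 ^ (β + 1) ∣ Nat.card B := by
      rw [← f.hu, ← Subgroup.orderOf_mk u huB]; exact orderOf_dvd_natCard _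
    obtain ⟨c, hc⟩ := hu
    exact ⟨r * c, by rw [hc]; ring⟩
  rw [← card_mul_index (T : Subgroup X), f.card, pow_succ] at h2
  exact T.not_dvd_index (Nat.dvd_of_mul_dvd_mul_left (pow_pos two_pos _) h2)

/-- The characterization. -/
theorem pgl_of_factorization (hM : ∀ N : Subgroup X, N.Normal → Group.IsSolvable N → N = ⊥)
    (hns : ¬ Group.IsSolvable X) (A B : Subgroup X) [IsCyclic A] [IsZGroup B]
    (hAB : ∀ g : X, ∃ a ∈ A, ∃ b ∈ B, g = a * b) :
    ∃ (F : Type) (_ : Field F) (_ : Fintype F) (p : ℕ), p.Prime ∧ 3 < p ∧ Fintype.card F = p ∧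
      Nonempty (X ≃* Matrix.ProjGenLinGroup (Fin 2) F) := by
  obtain ⟨T, a, u, α, β, f, haA, huB⟩ := exists_fac hM hns hAB
  have hOodd : Odd (Nat.card (Cfsg.oddCore X)) := ZStar.odd_card_oddCore
  have hO : Cfsg.oddCore X = ⊥ := hM _ (by unfold Cfsg.oddCore; infer_instance) (GW.isSolvable_of_not_four_dvd
    fun h4 => Nat.not_even_iff_odd.2 hOodd (even_iff_two_dvd.2 ((show 2 ∣ 4 by norm_num).trans h4)))
  have hi1 : a ^ 2 ^ α ≠ 1 := fun h => by
    have h' := (Nat.pow_dvd_pow_iff_le_right (le_refl 2)).1 (f.pow_eq_one_iff.1 h)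
    omega
  have hii : a ^ 2 ^ α * a ^ 2 ^ α = 1 := by
    rw [← pow_add, ← two_mul, ← pow_succ']; exact f.ha ▸ pow_orderOf_eq_one a
  have hnc : ∀ g, g * a ^ 2 ^ α * g⁻¹ ≠ u ^ 2 ^ β := by
    intro g h
    obtain ⟨a', ha', b', hb', hg⟩ := hAB g⁻¹
    have hc : a'⁻¹ * a ^ 2 ^ α * a' = a ^ 2 ^ α := by
      have h : a' * a ^ 2 ^ α = a ^ 2 ^ α * a' := congrArg Subtype.val
        ((IsCyclic.isMulCommutative (α := A)).is_comm.comm ⟨a', ha'⟩ ⟨a ^ 2 ^ α, pow_mem haA _⟩)
      rw [mul_assoc, ← h, inv_mul_cancel_left]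
    rw [← inv_inv g, hg, show (a' * b')⁻¹ * a ^ 2 ^ α * (a' * b')⁻¹⁻¹ = b'⁻¹ * (a'⁻¹ * a ^ 2 ^ α * a') * b' by group,
      hc] at h
    have hiB : a ^ 2 ^ α ∈ B := by
      have h2 := mul_mem (mul_mem hb' (pow_mem huB (2 ^ β))) (inv_mem hb')
      rw [← h] at h2
      simpa [mul_assoc] using h2
    exact hi1 (inf_eq_bot hM hAB (pow_mem haA _) hiB)
  have hD : GW.TwoCycDih X := by
    rcases cycDih_or_isolated T f hnc with h | ⟨z, hz⟩
    · exact GW.TwoCycDih.of_sylow T h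
    · exfalso
      have hc := ZStar.mem_center_of_isolated hO hz
      have h := hM (center X) inferInstance (Core.isSolvable_of_isMulCommutative _)
      rw [h, mem_bot] at hc
      exact Invol.ne_one hz.1 hc
  obtain ⟨E, hE, hs, hna, hgw, hC, hle, h4⟩ := GW.DGroup.DCtx.component_of GW.simpleGW hD hO hns
  haveI := hE
  -- the subgroup of index two
  obtain ⟨χ, x₀, hx₀⟩ := exists_odd_sign hM hns hAB
  have hkne : χ.ker ≠ ⊥ := fun h => hns <| by
    have := (MonoidHom.ker_eq_bot_iff _).1 h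
    exact Group.isSolvable_of_isSolvable_injective this
  have hEk : E ≤ χ.ker := hle _ (MonoidHom.normal_ker χ) hkne
  have h2E : 2 ∣ E.index := by
    refine dvd_trans ?_ (index_dvd_of_le hEk)
    have hr : χ.range = ⊤ := eq_top_iff.2 fun z _ => by
      rcases Int.units_eq_one_or z with rfl | rfl
      exacts [one_mem _, ⟨x₀, hx₀⟩]
    rw [index_ker, hr, card_top]
    simp [Nat.card_eq_fintype_card, Fintype.card_units_int]
  rcases hgw with ⟨F, iF, iF', hodd, h3, ⟨e⟩⟩ | ⟨⟨e⟩⟩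
  swap
  · have h := GW.DGroup.eq_top_of_alt_seven hD E hC e
    rw [h, index_top] at h2E
    norm_num at h2E
  obtain ⟨p, hchar⟩ := CharP.exists F
  haveI := hchar
  haveI hp : Fact p.Prime := ⟨CharP.char_is_prime F p⟩
  obtain ⟨n, -, hn⟩ := FiniteField.card F p
  set q := Fintype.card F with hq
  have hf : 1 ≤ (n : ℕ) := n.pos
  have hpodd : Odd p := by
    rcases hp.1.eq_two_or_odd' with rfl | h
    · rw [hn] at hodd; exact absurd hodd (Nat.not_odd_iff_even.2 (even_two.pow_of_ne_zero n.ne_zero))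
    · exact h
  have hp3 : 3 ≤ p := by have := hp.1.two_le; rw [Nat.odd_iff] at hpodd; omega
  -- the bound for the index
  have hidx : E.index ≤ 2 * n := by
    choose gA gσ hg using fun x : X => GW.PGL.exists_decomp_two (GW.PGL.autHom e x)
    let F' : X → (innd : GL (Fin 2) F →* MulAut (Matrix.ProjectiveSpecialLinearGroup (Fin 2) F)).range × (F ≃+* F) :=
      fun x => (⟨innd (gA x), _, rfl⟩, gσ x)
    have hF : Function.Injective F' := fun x y h => by
      obtain ⟨h1, h2⟩ := Prod.ext_iff.1 h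
      refine GW.PGL.autHom_injective e hC ?_
      rw [hg, hg, show innd (gA x) = innd (gA y) from congrArg Subtype.val h1, show gσ x = gσ y from h2]
    haveI : Finite (F ≃+* F) := Finite.of_injective (fun σ => (σ : F → F)) DFunLike.coe_injective
    have hle' := Nat.card_le_card_of_injective F' hF
    rw [Nat.card_prod, GW.PGL.card_innd_range, GW.PGL.card_pgl_eq hodd, ← Nat.card_congr e.toEquiv,
      Cfsg.Lib.Linear.AutPO.card_gal (p := p) hf hn, ← card_mul_index E, mul_comm 2, mul_assoc] at hle'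
    exact Nat.le_of_mul_le_mul_left hle' Nat.card_pos
  -- the `p`-parts
  have hqE : q ∣ Nat.card E := by
    have h5 := GW.DGroup.card_psl_two (F := F) hodd
    rw [← Nat.card_congr e.toEquiv, ← hq] at h5
    refine ((Nat.coprime_two_right.2 hodd).dvd_of_dvd_mul_left ?_)
    exact (Nat.dvd_add_left (dvd_refl q)).1 (h5 ▸ dvd_pow_self q three_ne_zero)
  have hex : ∀ y ∈ E, ∀ k, y ^ p ^ k = 1 → y ^ p = 1 := by
    intro y hy k hk
    have h := pow_char_eq_one (k := k) hpodd (e ⟨y, hy⟩) (by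
      rw [← map_pow, show (⟨y, hy⟩ : E) ^ p ^ k = 1 from Subtype.ext (by simpa using hk), map_one])
    rw [← map_pow] at h
    have h' := congrArg Subtype.val (e.map_eq_one_iff.1 h)
    simpa using h'
  set ep := E.index.factorization p
  have hi0 : E.index ≠ 0 := index_ne_zero_of_finite
  have hA : (Nat.card A).factorization p ≤ ep := by
    obtain ⟨P⟩ : Nonempty (Sylow p A) := inferInstance
    let φ : (P : Subgroup A) →* X ⧸ E := ((QuotientGroup.mk' E).comp A.subtype).comp (P : Subgroup A).subtype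
    have hφ : Function.Injective φ := (injective_iff_map_eq_one φ).2 fun z hz => by
      by_contra h1
      have hzE : ((z : A) : X) ∈ E := (QuotientGroup.eq_one_iff _).1 hz
      obtain ⟨k, hk⟩ := P.2 z
      refine not_commute_involution e hC hpodd hii hi1
        (GW.PGL.involution_mem_diag e hodd hC hD hii) hzE (fun h => h1 (Subtype.ext (Subtype.ext h)))
        (k := k) (by simpa using congrArg (fun w : (P : Subgroup A) => ((w : A) : X)) hk) ?_
      exact congrArg Subtype.val ((IsCyclic.isMulCommutative (α := A)).is_comm.comm ⟨a ^ 2 ^ α, pow_mem haA _⟩ (z : A))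
    have h := card_dvd_of_injective φ hφ
    rw [P.card_eq_multiplicity, ← index_eq_card] at h
    exact (hp.1.pow_dvd_iff_le_factorization hi0).1 h
  have hB : (Nat.card B).factorization p ≤ 1 + ep := by
    obtain ⟨P⟩ : Nonempty (Sylow p B) := inferInstance
    let φ : (P : Subgroup B) →* X ⧸ E := ((QuotientGroup.mk' E).comp B.subtype).comp (P : Subgroup B).subtype
    have h1 : Nat.card φ.ker ∣ p := by
      obtain ⟨g, hg⟩ := IsCyclic.exists_generator (α := φ.ker)
      rw [← orderOf_eq_card_of_forall_mem_zpowers hg]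
      refine orderOf_dvd_of_pow_eq_one (Subtype.ext (Subtype.ext (Subtype.ext ?_)))
      obtain ⟨k, hk⟩ := P.2 (g : (P : Subgroup B))
      simpa using hex (((g : (P : Subgroup B)) : B) : X) ((QuotientGroup.eq_one_iff _).1 g.2) k
        (by simpa using congrArg (fun w : (P : Subgroup B) => ((w : B) : X)) hk)
    have h2 : φ.ker.index ∣ E.index := by
      rw [index_ker, index_eq_card]
      exact card_subgroup_dvd_card _
    have h := mul_dvd_mul h1 h2
    rw [card_mul_index, P.card_eq_multiplicity] at h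
    have h' := (hp.1.pow_dvd_iff_le_factorization (mul_ne_zero hp.1.ne_zero hi0)).1 h
    rwa [Nat.factorization_mul hp.1.ne_zero hi0, Finsupp.add_apply, hp.1.factorization_self] at h'
  have hn1 : (n : ℕ) ≤ 1 + ep := by
    have h1 : (n : ℕ) + ep ≤ (Nat.card X).factorization p := by
      rw [← card_mul_index E, Nat.factorization_mul Nat.card_pos.ne' hi0, Finsupp.add_apply]
      exact Nat.add_le_add_right ((hp.1.pow_dvd_iff_le_factorization Nat.card_pos.ne').1 (hn ▸ hqE)) _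
    rw [card_mul hM hAB, Nat.factorization_mul Nat.card_pos.ne' Nat.card_pos.ne', Finsupp.add_apply] at h1
    omega
  have hpe : p ^ ep ≤ n := by
    have h2p : 2 * p ^ ep ∣ E.index :=
      (Nat.Coprime.pow_right ep (Nat.coprime_two_left.2 hpodd)).mul_dvd_of_dvd_of_dvd h2E (Nat.ordProj_dvd _ _)
    have := (Nat.le_of_dvd (Nat.pos_of_ne_zero hi0) h2p).trans hidx
    omega
  have hep : ep = 0 := by
    by_contra h
    have h3' : 3 ^ ep ≤ p ^ ep := Nat.pow_le_pow_left hp3 _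
    have h4' : 1 + ep < 3 ^ ep := by
      obtain ⟨j, hj⟩ : ∃ j, ep = j + 1 := ⟨ep - 1, by omega⟩
      rw [hj, pow_succ]
      have := Nat.lt_pow_self (show 1 < 3 by norm_num) (n := j)
      omega
    omega
  have hn' : (n : ℕ) = 1 := by omega
  rw [hn', pow_one] at hn
  refine ⟨F, iF, iF', p, hp.1, hn ▸ h3, hn, ?_⟩
  have hdiag : GW.PGL.diag e = ⊤ := eq_top_iff.2 fun x _ => by
    obtain ⟨A', σ, hA'⟩ := GW.PGL.exists_decomp_two (GW.PGL.autHom e x)
    haveI : Subsingleton (F ≃+* F) := (Nat.card_eq_one_iff_unique.1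
      (Cfsg.Lib.Linear.AutPO.card_gal (p := p) le_rfl (by rw [pow_one]; exact hn))).1
    exact ⟨A', by rw [hA', Subsingleton.elim σ 1, map_one, mul_one]⟩
  rcases GW.PGL.psl_or_pgl e hodd hC hdiag with h' | h
  · obtain ⟨e'⟩ := h'
    exfalso
    have h := card_mul_index E
    rw [Nat.card_congr e'.toEquiv, ← Nat.card_congr e.toEquiv] at h
    have : E.index = 1 := Nat.eq_of_mul_eq_mul_left Nat.card_pos (h.trans (mul_one _).symm)
    omega
  · exact h

/-- A nonsolvable product of a cyclic group and a group with cyclic Sylow subgroups is `PGL₂(p)` modulo its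
solvable radical. -/
theorem pgl_of_radical {G : Type v} [Group G] [Finite G] (hG : ¬ Group.IsSolvable G) (A B : Subgroup G)
    [IsCyclic A] [IsZGroup B] (hAB : ∀ g : G, ∃ a ∈ A, ∃ b ∈ B, g = a * b) (R : Subgroup G) [R.Normal]
    (hRs : Group.IsSolvable R) (hRmax : ∀ N : Subgroup G, N.Normal → Group.IsSolvable N → N ≤ R) :
    ∃ (F : Type) (_ : Field F) (_ : Fintype F) (p : ℕ), p.Prime ∧ 3 < p ∧ Fintype.card F = p ∧
      Nonempty (G ⧸ R ≃* Matrix.ProjGenLinGroup (Fin 2) F) := by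
  set π := QuotientGroup.mk' R
  haveI : IsCyclic (A.map π) := isCyclic_of_surjective (π.subgroupMap A) (π.subgroupMap_surjective A)
  haveI : IsZGroup (B.map π) := IsZGroup.of_surjective (π.subgroupMap_surjective B)
  refine pgl_of_factorization ?_ (GW.DGroup.DCtx.not_solvable_quotient hG R hRs) (A.map π) (B.map π) ?_
  · intro N hN hs
    haveI := hN
    have hle : N.comap π ≤ R := hRmax _ inferInstance (by
      haveI := hRs
      refine Group.isSolvable_of_ker_le_range (inclusion (show R ≤ N.comap π from fun x hx => by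
        rw [mem_comap, show π x = 1 from (QuotientGroup.eq_one_iff x).2 hx]; exact one_mem _))
        (π.subgroupComap N) ?_
      intro z hz
      exact ⟨⟨z, (QuotientGroup.eq_one_iff _).1 (congrArg Subtype.val hz)⟩, Subtype.ext rfl⟩)
    refine eq_bot_iff.2 fun x hx => ?_
    obtain ⟨g, rfl⟩ := QuotientGroup.mk'_surjective R x
    exact mem_bot.2 ((QuotientGroup.eq_one_iff g).2 (hle hx))
  · intro x
    obtain ⟨g, rfl⟩ := QuotientGroup.mk'_surjective R x
    obtain ⟨a, ha, b, hb, rfl⟩ := hAB g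
    exact ⟨π a, mem_map_of_mem _ ha, π b, mem_map_of_mem _ hb, map_mul π a b⟩

end Cfsg.Lib.CyclicZ
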