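import Cfsg.Agent.Lib.CyclicZ.Inner

/-!
# The fourth-power part of the Frattini subgroup

With `k = max α 1`, `l = max β 1`, every element of fourth power one of `⟨a², u²⟩` lies in
`⟨a^(2^k), u^(2^l)⟩`, which is abelian.
-/

set_option autoImplicit false
set_option linter.unusedSectionVars false
set_option linter.style.haveILetI false

namespace Cfsg.Lib.CyclicZ

open Subgroup

variable {G : Type*} [Group G] [Finite G] {H : Subgroup G} {a u : G} {α β : ℕ}

/-- The squares lie in the Frattini product. -/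
theorem Fac.sq_mem (f : Fac H a u (α + 1) (β + 1)) {g : G} (hg : g ∈ H) :
    g ^ 2 ∈ closure {a ^ 2 ^ 1, u ^ 2 ^ 1} := by
  rw [pow_one]
  obtain ⟨h1, hm1, hn1⟩ := f.half
  obtain ⟨h2, hm2, hn2⟩ := f.symm.half
  obtain ⟨x, y, hxy⟩ := f.gen _ (pow_mem hg 2)
  have e1 : g ^ 2 ∈ closure {a, u ^ 2} := by
    obtain ⟨x', y', rfl⟩ := f.gen g hg
    rcases Nat.even_or_odd y' with ⟨r, rfl⟩ | ⟨r, rfl⟩
    · exact pow_mem ((hm1 x' _).2 ⟨r, rfl⟩) 2
    · set m := a ^ x' * u ^ (2 * r)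
      have hm : m ∈ closure {a, u ^ 2} := (hm1 x' _).2 (even_two_mul r)
      rw [show a ^ x' * u ^ (2 * r + 1) = m * u by rw [pow_succ, mul_assoc], 
        show (m * u) ^ 2 = m * (u * m * u⁻¹) * u ^ 2 by simp [pow_two, mul_assoc]]
      exact mul_mem (mul_mem hm (hn1 u f.right m hm)) (subset_closure (by simp))
  have e2 : g ^ 2 ∈ closure {u, a ^ 2} := by
    obtain ⟨x', y', rfl⟩ := f.symm.gen g hg
    rcases Nat.even_or_odd y' with ⟨r, rfl⟩ | ⟨r, rfl⟩
    · exact pow_mem ((hm2 x' _).2 ⟨r, rfl⟩) 2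
    · set m := u ^ x' * a ^ (2 * r)
      have hm : m ∈ closure {u, a ^ 2} := (hm2 x' _).2 (even_two_mul r)
      rw [show u ^ x' * a ^ (2 * r + 1) = m * a by rw [pow_succ, mul_assoc], 
        show (m * a) ^ 2 = m * (a * m * a⁻¹) * a ^ 2 by simp [pow_two, mul_assoc]]
      exact mul_mem (mul_mem hm (hn2 a f.left m hm)) (subset_closure (by simp))
  obtain ⟨r, rfl⟩ := (hm1 x y).1 (hxy ▸ e1)
  -- the first exponent is even as well
  have hx : Even x := by
    rcases Nat.even_or_odd x with h | ⟨q, rfl⟩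
    · exact h
    · exfalso
      have hu : u ^ (r + r) ∈ closure {u, a ^ 2} := pow_mem (subset_closure (by simp)) _
      rw [hxy] at e2
      have h3 := (mul_mem_cancel_right hu).1 e2
      have h4 : u ^ 0 * a ^ (2 * q + 1) ∈ closure {u, a ^ 2} := by simpa using h3
      exact Nat.not_even_iff_odd.2 (odd_two_mul_add_one q) ((hm2 0 _).1 h4)
  obtain ⟨q, rfl⟩ := hx
  rw [hxy, ← two_mul, ← two_mul, pow_mul, pow_mul]
  exact mul_mem (pow_mem (subset_closure (by simp)) q) (pow_mem (subset_closure (by simp)) r)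

/-- The products of equal powers are normal. -/
theorem Fac.sub_normal (f : Fac H a u α β) :
    ∀ {k : ℕ}, k ≤ α → k ≤ β → ∀ g ∈ H, ∀ m ∈ closure {a ^ 2 ^ k, u ^ 2 ^ k},
      g * m * g⁻¹ ∈ closure {a ^ 2 ^ k, u ^ 2 ^ k} := by
  intro k
  induction k with
  | zero =>
    intro _ _ g hg m hm
    simp only [pow_zero, pow_one] at hm ⊢
    rw [← f.eq_closure] at hm ⊢
    exact mul_mem (mul_mem hg hm) (inv_mem hg)
  | succ k ih =>
    intro hα hβ g hg m hm
    have S := (f.sub (k := k) (l := k) (by omega) (by omega)).1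
    rw [show α - k = α - (k + 1) + 1 by omega, show β - k = β - (k + 1) + 1 by omega] at S
    induction hm using closure_induction with
    | mem x hx =>
      obtain ⟨y, hy, rfl⟩ : ∃ y ∈ closure {a ^ 2 ^ k, u ^ 2 ^ k}, x = y ^ 2 := by
        rcases hx with rfl | rfl
        · exact ⟨a ^ 2 ^ k, subset_closure (by simp), by rw [← pow_mul, ← pow_succ]⟩
        · exact ⟨u ^ 2 ^ k, subset_closure (by simp), by rw [← pow_mul, ← pow_succ]⟩
      have h := S.sq_mem (ih (by omega) (by omega) g hg y hy)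
      rw [conj_pow] at h
      rwa [← pow_mul, ← pow_mul, pow_one, ← pow_succ] at h
    | one => simp
    | mul x y _ _ hx hy => rw [show g * (x * y) * g⁻¹ = g * x * g⁻¹ * (g * y * g⁻¹) by group]; exact mul_mem hx hy
    | inv x _ hx => rw [show g * x⁻¹ * g⁻¹ = (g * x * g⁻¹)⁻¹ by group]; exact inv_mem hx

/-- The element of order four of `⟨u⟩` maps the one of `⟨a⟩` into `⟨a⟩`. -/
theorem Fac.conj_four (f : Fac H a u (α + 3) (β + 2)) :
    ∃ x, u ^ 2 ^ β * a ^ 2 ^ (α + 1) * (u ^ 2 ^ β)⁻¹ = a ^ x := by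
  set t := u ^ 2 ^ (β + 1)
  set w := u ^ 2 ^ β
  have g := (f.sub (k := 0) (l := β) (Nat.zero_le _) (by omega)).1
  simp only [pow_zero, pow_one, Nat.sub_zero, show β + 2 - β = 1 + 1 by omega] at g
  obtain ⟨h, -, hn⟩ := g.half
  have hw2 : w ^ 2 = t := by rw [← pow_mul, ← pow_succ]
  obtain ⟨p, q, hpq⟩ := h.gen _ (hn _ g.right _ h.left)
  rw [hw2] at hpq
  obtain ⟨l, hl⟩ := f.symm.conj_right (α := β + 1)
  have htt : t * t = 1 := by
    rw [← pow_add, ← two_mul, ← pow_succ']; exact (f.hu ▸ pow_orderOf_eq_one u)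
  obtain ⟨r, hr⟩ : ∃ r, (a ^ p * t ^ q) ^ 2 = a ^ r := by
    rcases Nat.even_or_odd q with ⟨s, rfl⟩ | ⟨s, rfl⟩
    · exact ⟨p * 2, by rw [← two_mul, pow_mul, pow_two t, htt, one_pow, mul_one, ← pow_mul]⟩
    · refine ⟨p + l * p, ?_⟩
      rw [pow_succ t, pow_mul t, pow_two t, htt, one_pow, one_mul, pow_two, pow_add, pow_mul, ← hl, conj_pow,
        mul_assoc, mul_assoc, show (u ^ 2 ^ (β + 1))⁻¹ = u ^ 2 ^ (β + 1) from inv_eq_of_mul_eq_one_left htt]
  refine ⟨r * 2 ^ α, ?_⟩
  rw [pow_mul, ← hr, ← hpq, conj_pow, conj_pow, ← pow_mul, ← pow_succ']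

/-- The two largest powers in the Frattini product commute. -/
theorem Fac.comm_four (f : Fac H a u (α + 2) (β + 2)) :
    Commute (a ^ 2 ^ max α 1) (u ^ 2 ^ max β 1) := by
  rcases α with _ | α <;> rcases β with _ | β
  · simpa using f.comm_it (α := 1) (β := 1)
  · rw [max_eq_left (Nat.le_add_left 1 β), show max 0 1 = 1 from rfl]
    have h := f.symm.conj_t (β := 0) (α := β + 1)
    simp only [Nat.zero_add, pow_one] at h ⊢
    set i := a ^ 2
    set t := u ^ 2 ^ (β + 1 + 1) with ht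
    have hut : Commute u t := Commute.self_pow u _
    have htt : t * t = 1 := by
      rw [← pow_add, ← two_mul, ← pow_succ']; exact (f.hu ▸ pow_orderOf_eq_one u)
    have h2 : Commute i (u ^ 2) := by
      rw [Commute, SemiconjBy, ← mul_inv_eq_iff_eq_mul, ← conj_pow]
      rcases h with h | h
      · rw [h]
      · rw [h, hut.mul_pow, pow_two t, htt, mul_one]
    rw [pow_succ', pow_mul]
    exact h2.pow_right _
  · rw [max_eq_left (Nat.le_add_left 1 α), show max 0 1 = 1 from rfl]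
    have h := f.conj_t (β := 0) (α := α + 1)
    simp only [Nat.zero_add, pow_one] at h ⊢
    set t := u ^ 2
    set i := a ^ 2 ^ (α + 1 + 1) with hi
    have hai : Commute a i := Commute.self_pow a _
    have hii : i * i = 1 := by
      rw [← pow_add, ← two_mul, ← pow_succ']; exact (f.ha ▸ pow_orderOf_eq_one a)
    have h2 : Commute t (a ^ 2) := by
      rw [Commute, SemiconjBy, ← mul_inv_eq_iff_eq_mul, ← conj_pow]
      rcases h with h | h
      · rw [h]
      · rw [h, hai.mul_pow, pow_two i, hii, mul_one]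
    rw [pow_succ', pow_mul]
    exact (h2.pow_right _).symm
  · rw [max_eq_left (Nat.le_add_left 1 α), max_eq_left (Nat.le_add_left 1 β)]
    obtain ⟨x, hx⟩ := f.conj_four (α := α) (β := β + 1)
    obtain ⟨y, hy⟩ := f.symm.conj_four (α := β) (β := α + 1)
    set A := a ^ 2 ^ (α + 1)
    set W := u ^ 2 ^ (β + 1)
    -- the commutator lies in both factors
    obtain ⟨p, hp⟩ : ∃ p : ℕ, a ^ x * A⁻¹ = a ^ p := by
      have h : a ^ x * A⁻¹ ∈ zpowers a := mul_mem (pow_mem (mem_zpowers a) x) (inv_mem (pow_mem (mem_zpowers a) _))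
      exact ((isOfFinOrder_of_finite a).mem_powers_iff_mem_zpowers.2 h).imp fun _ => Eq.symm
    obtain ⟨q, hq⟩ : ∃ q : ℕ, W * (u ^ y)⁻¹ = u ^ q := by
      have h : W * (u ^ y)⁻¹ ∈ zpowers u := mul_mem (pow_mem (mem_zpowers u) _) (inv_mem (pow_mem (mem_zpowers u) y))
      exact ((isOfFinOrder_of_finite u).mem_powers_iff_mem_zpowers.2 h).imp fun _ => Eq.symm
    have heq : a ^ p * u ^ 0 = a ^ 0 * u ^ q := by
      rw [pow_zero, pow_zero, mul_one, one_mul, ← hp, ← hq, ← hx, ← hy]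
      group
    obtain ⟨h0, -⟩ := f.uniq heq
    have h1 : a ^ p = 1 := f.pow_eq_one_iff.2 (Nat.modEq_zero_iff_dvd.1 h0)
    rw [h1, ← hx, mul_inv_eq_one, mul_inv_eq_iff_eq_mul] at hp
    exact hp.symm

/-- The structure of a quotient by a product of powers. -/
theorem Fac.quot (f : Fac H a u α β) (k : ℕ) (hα : k ≤ α) (hβ : k ≤ β) (N : Subgroup H) [N.Normal]
    (hN : N = (closure {a ^ 2 ^ k, u ^ 2 ^ k}).subgroupOf H) :
    Fac (⊤ : Subgroup (H ⧸ N)) (QuotientGroup.mk' N ⟨a, f.left⟩) (QuotientGroup.mk' N ⟨u, f.right⟩) k k := by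
  have hmem : ∀ x y : ℕ, (⟨a ^ x * u ^ y, f.mk_mem x y⟩ : H) ∈ N → 2 ^ k ∣ x ∧ 2 ^ k ∣ y := fun x y h => by
    rw [hN, mem_subgroupOf] at h
    exact f.sub_dvd hα hβ h
  refine ⟨?_, ?_, ?_, mem_top _, mem_top _, fun g _ => ?_⟩
  · rcases k with _ | k
    · rw [pow_zero, orderOf_eq_one_iff]
      refine (QuotientGroup.eq_one_iff _).2 ?_
      rw [hN, mem_subgroupOf]; exact subset_closure (by simp)
    · refine orderOf_eq_prime_pow (p := 2) ?_ ?_
      · rw [← map_pow, QuotientGroup.mk'_apply, QuotientGroup.eq_one_iff]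
        intro h
        have h2 := (hmem (2 ^ k) 0 (by convert h using 1; exact Subtype.ext (by simp))).1
        exact absurd (Nat.le_of_dvd (by positivity) h2) (by
          have : 0 < 2 ^ k := by positivity
          rw [pow_succ]; omega)
      · rw [← map_pow, QuotientGroup.mk'_apply, QuotientGroup.eq_one_iff, hN, mem_subgroupOf]
        exact subset_closure (by simp)
  · rcases k with _ | k
    · rw [pow_zero, orderOf_eq_one_iff]
      refine (QuotientGroup.eq_one_iff _).2 ?_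
      rw [hN, mem_subgroupOf]; exact subset_closure (by simp)
    · refine orderOf_eq_prime_pow (p := 2) ?_ ?_
      · rw [← map_pow, QuotientGroup.mk'_apply, QuotientGroup.eq_one_iff]
        intro h
        have h2 := (hmem 0 (2 ^ k) (by convert h using 1; exact Subtype.ext (by simp))).2
        exact absurd (Nat.le_of_dvd (by positivity) h2) (by
          have : 0 < 2 ^ k := by positivity
          rw [pow_succ]; omega)
      · rw [← map_pow, QuotientGroup.mk'_apply, QuotientGroup.eq_one_iff, hN, mem_subgroupOf]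
        exact subset_closure (by simp)
  · have hcN : Nat.card N = 2 ^ ((α - k) + (β - k)) := by
      rw [hN, Nat.card_congr (subgroupOfEquivOfLe (f.sub hα hβ).2).toEquiv, (f.sub hα hβ).1.card]
    have h := card_eq_card_quotient_mul_card_subgroup N
    rw [f.card, hcN, show α + β = (k + k) + ((α - k) + (β - k)) by omega, pow_add 2 (k + k)] at h
    rw [card_top]
    exact (Nat.eq_of_mul_eq_mul_right (by positivity) h).symm
  · obtain ⟨g, rfl⟩ := QuotientGroup.mk'_surjective N g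
    obtain ⟨x, y, hxy⟩ := f.gen g g.2
    exact ⟨x, y, by rw [← map_pow, ← map_pow, ← map_mul]; exact congrArg _ (Subtype.ext (by simp [hxy]))⟩

/-- Squaring keeps the parities of the exponents. -/
theorem Fac.sq_parity (f : Fac H a u (α + 3) (β + 3)) (p q : ℕ) :
    ∃ p' q', (a ^ (2 * p) * u ^ (2 * q)) ^ 2 = a ^ (4 * p') * u ^ (4 * q') ∧ p' ≡ p [MOD 2] ∧ q' ≡ q [MOD 2] := by
  let N : Subgroup H := (closure {a ^ 2 ^ 3, u ^ 2 ^ 3}).subgroupOf H
  haveI : N.Normal := ⟨fun n hn g => by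
    rw [mem_subgroupOf] at hn ⊢
    exact f.sub_normal (by omega) (by omega) g g.2 n hn⟩
  set π := QuotientGroup.mk' N
  have hc : Commute (π ⟨a, f.left⟩ ^ 2) (π ⟨u, f.right⟩ ^ 2) := by
    have h := (f.quot 3 (by omega) (by omega) N rfl).comm_four (α := 1) (β := 1)
    simp only [max_self, pow_one] at h
    exact h
  set X : H := ⟨a ^ (4 * p) * u ^ (4 * q), f.mk_mem _ _⟩
  set Z : H := ⟨a ^ (2 * p) * u ^ (2 * q), f.mk_mem _ _⟩
  have hXZ : π (Z ^ 2) = π X := by
    have eZ : Z = ⟨a, f.left⟩ ^ (2 * p) * ⟨u, f.right⟩ ^ (2 * q) := Subtype.ext (by simp [Z])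
    have eX : X = ⟨a, f.left⟩ ^ (4 * p) * ⟨u, f.right⟩ ^ (4 * q) := Subtype.ext (by simp [X])
    rw [eZ, eX, map_pow, map_mul, map_mul, map_pow, map_pow, map_pow, map_pow, pow_mul _ 2 p, pow_mul _ 2 q,
      (hc.pow_pow p q).mul_pow, ← pow_mul, ← pow_mul, ← pow_mul, ← pow_mul]
    congr 2 <;> ring
  have hN := QuotientGroup.eq.1 hXZ.symm
  rw [mem_subgroupOf] at hN
  obtain ⟨r, s, hrs⟩ := (f.sub (k := 3) (l := 3) (by omega) (by omega)).1.gen _ hN
  rw [← pow_mul, ← pow_mul] at hrs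
  have hsq : (a ^ (2 * p) * u ^ (2 * q)) ^ 2 = a ^ (4 * p) * (u ^ (4 * q) * (a ^ (8 * r) * u ^ (8 * s))) := by
    have h : ((X⁻¹ * Z ^ 2 : H) : G) = a ^ (8 * r) * u ^ (8 * s) := by rw [hrs]; norm_num
    simp only [Subgroup.coe_mul, Subgroup.coe_inv, SubmonoidClass.coe_pow, X, Z] at h
    rw [← h]
    group
  -- the middle product
  obtain ⟨S, hS⟩ := f.sub (k := 3) (l := 2) (by omega) (by omega)
  have hu4 : ∀ n, u ^ (4 * n) ∈ closure {a ^ 2 ^ 3, u ^ 2 ^ 2} := fun n => by
    rw [pow_mul]; exact pow_mem (subset_closure (by norm_num)) n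
  have hz : u ^ (4 * q) * (a ^ (8 * r) * u ^ (8 * s)) ∈ closure {a ^ 2 ^ 3, u ^ 2 ^ 2} :=
    mul_mem (hu4 q) (mul_mem (by rw [pow_mul]; exact pow_mem (subset_closure (by norm_num)) r)
      (by rw [show 8 * s = 4 * (2 * s) by ring]; exact hu4 _))
  obtain ⟨r', q', hz'⟩ := S.gen _ hz
  rw [← pow_mul, ← pow_mul] at hz'
  refine ⟨p + 2 * r', q', ?_, ?_, ?_⟩
  · rw [hsq, hz', ← mul_assoc, ← pow_add]
    norm_num [mul_add, ← mul_assoc]
  · show (p + 2 * r') % 2 = p % 2
    omega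
  · have hrs' : a ^ (8 * r) * u ^ (8 * s) ∈ closure {a ^ 2 ^ 3, u ^ 2 ^ 3} := by
      rw [pow_mul, pow_mul]
      exact mul_mem (pow_mem (subset_closure (by norm_num)) r) (pow_mem (subset_closure (by norm_num)) s)
    have h8 : ∀ n, (u ^ (4 * n) ∈ closure {a ^ 2 ^ 3, u ^ 2 ^ 3} ↔ Even n) := by
      intro n
      refine ⟨fun h => ?_, fun ⟨m, hm⟩ => ?_⟩
      · have h1 : a ^ 0 * u ^ (4 * n) ∈ closure {a ^ 2 ^ 3, u ^ 2 ^ 3} := by simpa using h
        obtain ⟨m, hm⟩ := (f.sub_dvd (by omega) (by omega) h1).2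
        exact ⟨m, by omega⟩
      · rw [hm, show 4 * (m + m) = 8 * m by ring, pow_mul]
        exact pow_mem (subset_closure (by norm_num)) m
    have hiff : Even q' ↔ Even q := by
      rw [← h8, ← h8]
      have ha8 : a ^ (2 ^ 3 * r') ∈ closure {a ^ 2 ^ 3, u ^ 2 ^ 3} := by
        rw [pow_mul]; exact pow_mem (subset_closure (by simp)) r'
      rw [← mul_mem_cancel_left ha8 (y := u ^ (4 * q')), ← mul_mem_cancel_right hrs' (y := u ^ (4 * q))]
      rw [hz', show 2 ^ 2 * q' = 4 * q' from rfl]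
    rw [Nat.even_iff, Nat.even_iff] at hiff
    show q' % 2 = q % 2
    omega

/-- An involution of the abelian part is a product of the two involutions. -/
theorem Fac.invol_abelian (f : Fac H a u (α + 2) (β + 2)) {x y : ℕ}
    (h : ((a ^ 2 ^ max α 1) ^ x * (u ^ 2 ^ max β 1) ^ y) ^ 2 = 1) :
    2 ^ (α + 1) ∣ 2 ^ max α 1 * x ∧ 2 ^ (β + 1) ∣ 2 ^ max β 1 * y := by
  rw [(f.comm_four.pow_pow x y).mul_pow, ← pow_mul, ← pow_mul, ← pow_mul, ← pow_mul] at h
  have h' : a ^ (2 ^ max α 1 * (x * 2)) * u ^ (2 ^ max β 1 * (y * 2)) = a ^ 0 * u ^ 0 := by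
    simpa [mul_assoc] using h
  obtain ⟨h1, h2⟩ := f.uniq h'
  rw [Nat.modEq_zero_iff_dvd, ← mul_assoc, pow_succ _ (α + 1)] at h1
  rw [Nat.modEq_zero_iff_dvd, ← mul_assoc, pow_succ _ (β + 1)] at h2
  exact ⟨Nat.dvd_of_mul_dvd_mul_right two_pos h1, Nat.dvd_of_mul_dvd_mul_right two_pos h2⟩

/-- An element of fourth power one in the Frattini product lies in the abelian part. -/
theorem omega_mem : ∀ (N : ℕ) {H : Subgroup G} {a u : G} {α β : ℕ}, α + β = N → Fac H a u (α + 2) (β + 2) →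
    ∀ {x : G}, x ∈ closure {a ^ 2, u ^ 2} → x ^ 4 = 1 → x ∈ closure {a ^ 2 ^ max α 1, u ^ 2 ^ max β 1} := by
  intro N
  induction N using Nat.strong_induction_on with
  | _ N ih =>
    suffices key : ∀ {H : Subgroup G} {a u : G} {α β : ℕ}, 2 ≤ α → α + β = N → Fac H a u (α + 2) (β + 2) →
        ∀ {x : G}, x ∈ closure {a ^ 2, u ^ 2} → x ^ 4 = 1 →
          x ∈ closure {a ^ 2 ^ max α 1, u ^ 2 ^ max β 1} by
      intro H a u α β hN f x hx hx4
      rcases Nat.lt_or_ge α 2 with hα | hα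
      swap
      · exact key hα hN f hx hx4
      rcases Nat.lt_or_ge β 2 with hβ | hβ
      · rw [show max α 1 = 1 by omega, show max β 1 = 1 by omega, pow_one]; exact hx
      · rw [Set.pair_comm] at hx ⊢
        exact key hβ (by omega) f.symm hx hx4
    intro H a u α β hα hN f x hx hx4
    obtain ⟨S, -⟩ := f.sub (k := 1) (l := 1) (by omega) (by omega)
    rw [pow_one, show α + 2 - 1 = α + 1 by omega, show β + 2 - 1 = β + 1 by omega] at S
    obtain ⟨p, q, hpq⟩ := S.gen x hx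
    have hp : Even p := by
      rcases Nat.eq_zero_or_pos β with rfl | hβ
      · have hc := f.comm_four
        rcases f.conj_t with h | h
        all_goals
          have hta : Commute (a ^ 2) (u ^ 2) := by
            refine Commute.symm ?_
            rw [Commute, SemiconjBy, ← mul_inv_eq_iff_eq_mul, ← conj_pow]
            simp only [Nat.zero_add, pow_one] at h
            rw [h]
            try rw [(Commute.self_pow a _).mul_pow, ← pow_mul, ← pow_succ, show α + 1 + 1 = α + 2 from rfl,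
              ← f.ha, pow_orderOf_eq_one, mul_one]
        all_goals
          rw [hpq, (hta.pow_pow p q).mul_pow, ← pow_mul, ← pow_mul, ← pow_mul, ← pow_mul] at hx4
          have h1 : a ^ (2 * (p * 4)) * u ^ (2 * (q * 4)) = a ^ 0 * u ^ 0 := by simpa [mul_assoc] using hx4
          have h2 : 2 ^ 4 ∣ 8 * p := (pow_dvd_pow 2 (show 4 ≤ α + 2 by omega)).trans
            (by have := Nat.modEq_zero_iff_dvd.1 (f.uniq h1).1; rwa [show 2 * (p * 4) = 8 * p by ring] at this)
          rw [Nat.even_iff]; omega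
      · obtain ⟨α, rfl⟩ : ∃ α', α = α' + 1 := ⟨α - 1, by omega⟩
        obtain ⟨β, rfl⟩ : ∃ β', β = β' + 1 := ⟨β - 1, by omega⟩
        obtain ⟨p', q', hsq, hp', -⟩ := f.sq_parity p q
        rw [pow_mul, pow_mul, ← hpq] at hsq
        have hy : x ^ 2 ∈ closure {(a ^ 2) ^ 2, (u ^ 2) ^ 2} := by
          rw [hsq, show 4 * p' = 2 * (2 * p') by ring, show 4 * q' = 2 * (2 * q') by ring, pow_mul, pow_mul _ 2 p',
            pow_mul, pow_mul _ 2 q']
          exact mul_mem (pow_mem (subset_closure (by simp)) _) (pow_mem (subset_closure (by simp)) _)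
        have hy2 : (x ^ 2) ^ 2 = 1 := by rw [← pow_mul]; exact hx4
        have h := ih (α + β) (by omega) rfl S hy
          (by rw [show (4 : ℕ) = 2 * 2 from rfl, pow_mul, hy2, one_pow])
        obtain ⟨T, -⟩ := S.sub (k := max α 1) (l := max β 1) (by omega) (by omega)
        obtain ⟨r, s, hrs⟩ := T.gen _ h
        rw [hrs] at hy2
        have h16 := (S.invol_abelian hy2).1
        rw [hsq, ← pow_mul, ← pow_mul, ← pow_mul, ← pow_mul] at hrs
        have hmod := (f.uniq hrs).1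
        have h1 : 2 ^ 3 ∣ 2 * (2 ^ max α 1 * r) :=
          ((pow_dvd_pow 2 (by omega)).trans (pow_succ' 2 (α + 1) ▸ mul_dvd_mul_left 2 h16))
        have h2 := ((hmod.of_dvd (pow_dvd_pow 2 (by omega : 3 ≤ α + 1 + 2))).dvd_iff dvd_rfl).2 h1
        have h3 : p' % 2 = p % 2 := hp'
        rw [Nat.even_iff]; omega
    obtain ⟨p, rfl⟩ := hp
    obtain ⟨α, rfl⟩ : ∃ α', α = α' + 1 := ⟨α - 1, by omega⟩
    obtain ⟨D, -⟩ := f.sub (k := 1) (l := 0) (by omega) (by omega)
    rw [pow_one, pow_zero, pow_one, show α + 1 + 2 - 1 = α + 2 by omega, Nat.sub_zero] at D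
    have h := ih (α + β) (by omega) rfl D (x := x) (by
      rw [hpq, ← two_mul, pow_mul _ 2 p]
      exact mul_mem (pow_mem (subset_closure (by simp)) _) (pow_mem (subset_closure (by simp)) _)) hx4
    rw [show max α 1 = α by omega, ← pow_mul, ← pow_succ'] at h
    rwa [show max (α + 1) 1 = α + 1 by omega]

end Cfsg.Lib.CyclicZ
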