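import Cfsg.Agent.Lib.CyclicZ.Parity

/-!
# The centralizer of an involution outside the Frattini product

Such an involution `s = a u` (after changing generators) commutes with no element of the class of `a`;
if moreover it commutes with no element of order four of the Frattini product, its centralizer in the
Sylow subgroup has order at most eight.
-/

set_option autoImplicit false
set_option linter.unusedSectionVars false
set_option linter.style.haveILetI false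

namespace Cfsg.Lib.CyclicZ

open Subgroup

variable {G : Type*} [Group G] [Finite G] {H : Subgroup G} {a u : G} {α β : ℕ}

/-- `a u` commutes with no element of the class of `a`. -/
theorem Fac.no_commute_au (f : Fac H a u α (β + 2)) (hs : (a * u) * (a * u) = 1) {x y : ℕ} (hx : Odd x) :
    ¬ Commute (a ^ x * (u ^ 2) ^ y) (a * u) := by
  intro hc
  obtain ⟨fM, -, -⟩ := f.half
  obtain ⟨-, hm, hn⟩ := fM.half
  have hu2 : u ^ 2 ∉ closure {a, (u ^ 2) ^ 2} := fun h => by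
    simpa using (hm 0 1).1 (by simpa using h)
  have hA : a ∈ closure {a, (u ^ 2) ^ 2} := subset_closure (by simp)
  have h1 : (u ^ 2)⁻¹ * a⁻¹ ∉ closure {a, (u ^ 2) ^ 2} := fun h =>
    hu2 (inv_mem_iff.1 ((mul_mem_cancel_right (inv_mem hA)).1 h))
  have h1M : (u ^ 2)⁻¹ * a⁻¹ ∈ closure {a, u ^ 2} := mul_mem (inv_mem fM.right) (inv_mem fM.left)
  have h2M : a * u ^ 2 * a⁻¹ ∈ closure {a, u ^ 2} := mul_mem (mul_mem fM.left fM.right) (inv_mem fM.left)
  have h2 : a * u ^ 2 * a⁻¹ ∉ closure {a, (u ^ 2) ^ 2} := fun h =>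
    hu2 ((mul_mem_cancel_left hA).1 ((mul_mem_cancel_right (inv_mem hA)).1 h))
  have hpow : ∀ g ∈ closure {a, u ^ 2}, g ∉ closure {a, (u ^ 2) ^ 2} →
      ∀ n : ℕ, g ^ n ∈ closure {a, (u ^ 2) ^ 2} ↔ Even n := by
    intro g hg hg' n
    induction n with
    | zero => simp
    | succ n ih => rw [pow_succ g n, fM.half_mul (pow_mem hg n) hg, ih, Nat.even_add_one]; simp [hg']
  have e0 : u * a * u = a⁻¹ := by
    refine eq_inv_of_mul_eq_one_right ?_
    rw [← mul_assoc, ← mul_assoc, mul_assoc (a * u)]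
    exact hs
  have ea : a * u * a * (a * u)⁻¹ = (u ^ 2)⁻¹ * a⁻¹ := by
    rw [show a * u * a * (a * u)⁻¹ = a * (u * a * u) * (u ^ 2)⁻¹ * a⁻¹ by
      simp [pow_two, mul_assoc], e0, mul_inv_cancel, one_mul]
  have eu : a * u * u ^ 2 * (a * u)⁻¹ = a * u ^ 2 * a⁻¹ := by
    simp only [pow_two, mul_inv_rev, mul_assoc, mul_inv_cancel_left]
  have key : a ^ x * (u ^ 2) ^ y = ((u ^ 2)⁻¹ * a⁻¹) ^ x * (a * u ^ 2 * a⁻¹) ^ y := by
    rw [← ea, ← eu, conj_pow, conj_pow]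
    calc a ^ x * (u ^ 2) ^ y = a * u * (a ^ x * (u ^ 2) ^ y) * (a * u)⁻¹ := by
          rw [← hc.eq, mul_inv_cancel_right]
      _ = _ := by group
  have hP : a ^ x * (u ^ 2) ^ y ∈ closure {a, (u ^ 2) ^ 2} ↔ Even y := hm x y
  rw [key, fM.half_mul (pow_mem h1M x) (pow_mem h2M y), hpow _ h1M h1, hpow _ h2M h2] at hP
  have := Nat.not_even_iff_odd.2 hx
  tauto

/-- An involution with odd exponents commutes with no element of the class of `a`. -/
theorem Fac.no_commute (f : Fac H a u (α + 1) (β + 2)) {p q x y : ℕ} (hp : Odd p) (hq : Odd q)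
    (hs : (a ^ p * u ^ q) * (a ^ p * u ^ q) = 1) (hx : Odd x) (hy : Even y) :
    ¬ Commute (a ^ x * u ^ y) (a ^ p * u ^ q) := by
  intro hc
  have f' := f.rescale hp hq
  obtain ⟨x', y', hxy⟩ := f'.gen _ (f.mk_mem x y)
  rw [← pow_mul, ← pow_mul] at hxy
  obtain ⟨h1, h2⟩ := f.uniq hxy
  have h1' : x % 2 = p * x' % 2 := h1.of_dvd (dvd_pow_self 2 (by omega))
  have h2' : y % 2 = q * y' % 2 := h2.of_dvd (dvd_pow_self 2 (by omega))
  rw [Nat.even_iff] at hy
  rw [Nat.odd_iff] at hp hq hx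
  rw [Nat.mul_mod, hp, one_mul, Nat.mod_mod] at h1'
  rw [Nat.mul_mod, hq, one_mul, Nat.mod_mod] at h2'
  obtain ⟨r, hr⟩ : Even y' := Nat.even_iff.2 (by omega)
  rw [pow_mul, pow_mul] at hxy
  refine f'.no_commute_au hs (x := x') (y := r) (Nat.odd_iff.2 (by omega)) ?_
  rw [← pow_mul _ 2 r, two_mul, ← hr, ← hxy]
  exact hc

/-- The centralizer of an involution with odd exponents in the Sylow subgroup. -/
theorem Fac.commute_cases (f : Fac H a u (α + 2) (β + 2)) {p q : ℕ} (hp : Odd p) (hq : Odd q)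
    (hs : (a ^ p * u ^ q) * (a ^ p * u ^ q) = 1)
    (hno : ∀ v ∈ closure {a ^ 2, u ^ 2}, v ^ 4 = 1 → Commute v (a ^ p * u ^ q) → v * v = 1)
    {z : G} (hz : z ∈ H) (hc : Commute z (a ^ p * u ^ q)) :
    ∃ e : G, (e = 1 ∨ e = a ^ p * u ^ q) ∧ ∃ w : G, (w = 1 ∨ w = a ^ 2 ^ (α + 1) ∨ w = u ^ 2 ^ (β + 1) ∨
      w = a ^ 2 ^ (α + 1) * u ^ 2 ^ (β + 1)) ∧ z = e * w := by
  set s := a ^ p * u ^ q
  have hU : ∀ v ∈ closure {a ^ 2, u ^ 2}, Commute v s → v * v = 1 := by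
    intro v hv hvs
    obtain ⟨k, hk⟩ := IsPGroup.iff_orderOf.1 f.isPGroup ⟨v, f.le' hv⟩
    rw [Subgroup.orderOf_mk] at hk
    rcases Nat.lt_or_ge k 2 with hk2 | hk2
    · rw [← pow_two, ← orderOf_dvd_iff_pow_eq_one, hk]
      exact (pow_dvd_pow 2 (by omega : k ≤ 1)).trans (dvd_refl 2)
    · exfalso
      obtain ⟨j, rfl⟩ : ∃ j, k = j + 2 := ⟨k - 2, by omega⟩
      have h4 : (v ^ 2 ^ j) ^ 4 = 1 := by
        rw [← pow_mul, ← orderOf_dvd_iff_pow_eq_one, hk, pow_add]; rfl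
      have h2 := hno _ (pow_mem hv _) h4 (hvs.pow_left _)
      rw [← pow_two, ← pow_mul, ← orderOf_dvd_iff_pow_eq_one, hk, ← pow_succ] at h2
      have := (Nat.pow_dvd_pow_iff_le_right (le_refl 2)).1 h2
      omega
  have hsc : Commute s s := Commute.refl s
  obtain ⟨x, y, hxy⟩ := f.gen z hz
  rw [Nat.odd_iff] at hp hq
  rcases Nat.even_or_odd x with hx | hx <;> rcases Nat.even_or_odd y with hy | hy
  · have hzΦ : z ∈ closure {a ^ 2, u ^ 2} := hxy ▸ f.even_iff.2 ⟨hx, hy⟩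
    exact ⟨1, Or.inl rfl, z, f.invol_mem hzΦ (hU z hzΦ hc), (one_mul z).symm⟩
  · exfalso
    -- `z s` has the class of `a`
    have hzsH : z * s ∈ H := mul_mem hz (f.mk_mem p q)
    obtain ⟨X, Y, hXY⟩ := f.gen _ hzsH
    obtain ⟨-, hm, -⟩ := f.half
    have hY : Even Y := by
      rw [← hm X Y, ← hXY, f.half_mul hz (f.mk_mem p q), hxy, hm, hm]
      exact iff_of_false (Nat.not_even_iff_odd.2 hy) (by rw [Nat.even_iff]; omega)
    obtain ⟨-, hm', -⟩ := f.symm.half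
    have hm2 : ∀ n m : ℕ, a ^ n * u ^ m ∈ closure {u, a ^ 2} ↔ Even n := fun n m => by
      rw [mul_mem_cancel_right (pow_mem (subset_closure (by simp)) m), ← hm' 0 n, pow_zero, one_mul]
    have hX : Odd X := by
      rw [← Nat.not_even_iff_odd, ← hm2 X Y, ← hXY, f.symm.half_mul hz (f.mk_mem p q), hxy, hm2, hm2]
      exact fun h => absurd (h.1 hx) (by rw [Nat.even_iff]; omega)
    exact f.no_commute (Nat.odd_iff.2 hp) (Nat.odd_iff.2 hq) hs hX hY (hXY ▸ hc.mul_left hsc)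
  · exact absurd (hxy ▸ hc) (f.no_commute (Nat.odd_iff.2 hp) (Nat.odd_iff.2 hq) hs hx hy)
  · rw [Nat.odd_iff] at hx hy
    have h1 : s⁻¹ * z ∈ closure {a ^ 2, u ^ 2} := hxy ▸ f.same_class (by omega) (by omega)
    exact ⟨s, Or.inr rfl, _, f.invol_mem h1 (hU _ h1 ((hsc.inv_left).mul_left hc)),
      (mul_inv_cancel_left s z).symm⟩

end Cfsg.Lib.CyclicZ
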