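import Cfsg.Agent.Lib.PGroup.Basic
import Mathlib.GroupTheory.Sylow
import Mathlib.GroupTheory.IndexNormal

/-!
# Products of two cyclic 2-groups

A subgroup `H` which is a product of two cyclic 2-groups with trivial intersection: the maximal
subgroups through a factor, the products of the smaller powers, and the parities of the exponents.
-/

set_option autoImplicit false
set_option linter.unusedSectionVars false
set_option linter.style.haveILetI false

namespace Cfsg.Lib.CyclicZ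

open Subgroup

variable {G : Type*} [Group G] [Finite G] {H : Subgroup G} {a u : G} {α β : ℕ}

/-- `H` is the product of the cyclic groups generated by `a` and `u`, of coprime exponents. -/
structure Fac (H : Subgroup G) (a u : G) (α β : ℕ) : Prop where
  ha : orderOf a = 2 ^ α
  hu : orderOf u = 2 ^ β
  card : Nat.card H = 2 ^ (α + β)
  left : a ∈ H
  right : u ∈ H
  gen : ∀ g ∈ H, ∃ x y : ℕ, g = a ^ x * u ^ y

theorem Fac.mk_mem (f : Fac H a u α β) (x y : ℕ) : a ^ x * u ^ y ∈ H :=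
  mul_mem (pow_mem f.left x) (pow_mem f.right y)

theorem Fac.eq_closure (f : Fac H a u α β) : H = closure {a, u} := by
  refine le_antisymm (fun g hg => ?_) ((closure_le _).2 ?_)
  · obtain ⟨x, y, rfl⟩ := f.gen g hg
    exact mul_mem (pow_mem (subset_closure (by simp)) x) (pow_mem (subset_closure (by simp)) y)
  · rintro g (rfl | rfl)
    exacts [f.left, f.right]

theorem Fac.isPGroup (f : Fac H a u α β) : IsPGroup 2 H := IsPGroup.of_card f.card

theorem Fac.symm (f : Fac H a u α β) : Fac H u a β α := by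
  refine ⟨f.hu, f.ha, by rw [f.card, add_comm], f.right, f.left, fun g hg => ?_⟩
  obtain ⟨x, y, h⟩ := f.gen g⁻¹ (inv_mem hg)
  have hx : a⁻¹ = a ^ (2 ^ α - 1) := inv_eq_of_mul_eq_one_right (by
    rw [← pow_succ', Nat.sub_add_cancel Nat.one_le_two_pow, ← f.ha, pow_orderOf_eq_one])
  have hy : u⁻¹ = u ^ (2 ^ β - 1) := inv_eq_of_mul_eq_one_right (by
    rw [← pow_succ', Nat.sub_add_cancel Nat.one_le_two_pow, ← f.hu, pow_orderOf_eq_one])
  refine ⟨(2 ^ β - 1) * y, (2 ^ α - 1) * x, ?_⟩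
  rw [pow_mul, pow_mul, ← hx, ← hy, inv_pow, inv_pow, ← mul_inv_rev, ← h, inv_inv]

/-- The exponents are unique. -/
theorem Fac.uniq (f : Fac H a u α β) {x y x' y' : ℕ} (h : a ^ x * u ^ y = a ^ x' * u ^ y') :
    x ≡ x' [MOD 2 ^ α] ∧ y ≡ y' [MOD 2 ^ β] := by
  let φ : Fin (2 ^ α) × Fin (2 ^ β) → H := fun p => ⟨a ^ (p.1 : ℕ) * u ^ (p.2 : ℕ), f.mk_mem _ _⟩
  have hred : ∀ x y : ℕ, a ^ x * u ^ y =
      φ (⟨x % 2 ^ α, Nat.mod_lt _ (by positivity)⟩, ⟨y % 2 ^ β, Nat.mod_lt _ (by positivity)⟩) := fun x y => by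
    show a ^ x * u ^ y = a ^ (x % 2 ^ α) * u ^ (y % 2 ^ β)
    rw [← f.ha, ← f.hu, pow_mod_orderOf, pow_mod_orderOf]
  have hsurj : Function.Surjective φ := fun g => by
    obtain ⟨x, y, hg⟩ := f.gen g g.2
    exact ⟨_, Subtype.ext ((hred x y).symm.trans hg.symm)⟩
  have hinj : Function.Injective φ := (Function.Surjective.bijective_of_nat_card_le hsurj (by
    rw [f.card, Nat.card_prod, Nat.card_fin, Nat.card_fin, pow_add])).1
  rw [hred, hred] at h
  have h1 := hinj (Subtype.ext h)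
  rw [Prod.ext_iff, Fin.ext_iff, Fin.ext_iff] at h1
  exact h1

/-- The maximal subgroup through the first factor. -/
theorem Fac.half (f : Fac H a u α (β + 1)) :
    Fac (closure {a, u ^ 2}) a (u ^ 2) α β ∧
      (∀ x y : ℕ, a ^ x * u ^ y ∈ closure {a, u ^ 2} ↔ Even y) ∧
      (∀ g ∈ H, ∀ m ∈ closure {a, u ^ 2}, g * m * g⁻¹ ∈ closure {a, u ^ 2}) := by
  haveI : Fact (Nat.Prime 2) := ⟨Nat.prime_two⟩
  obtain ⟨K, hK, hle⟩ := Sylow.exists_subgroup_card_pow_prime_le 2
    (n := α) (m := α + β) (G := H) (by rw [f.card]; exact pow_dvd_pow 2 (by omega))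
    (zpowers (⟨a, f.left⟩ : H)) (by rw [Nat.card_zpowers, Subgroup.orderOf_mk, f.ha]) (by omega)
  have haK : (⟨a, f.left⟩ : H) ∈ K := hle (mem_zpowers _)
  have hi : K.index = 2 := by
    have h1 := card_mul_index K
    rw [hK, f.card, show α + (β + 1) = α + β + 1 by ring, pow_succ (2 : ℕ) (α + β)] at h1
    exact Nat.eq_of_mul_eq_mul_left (by positivity) h1
  have hu : (⟨u, f.right⟩ : H) ∉ K := fun h => by
    have htop : K = ⊤ := eq_top_iff.2 fun g _ => by
      obtain ⟨x, y, hg⟩ := f.gen g g.2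
      rw [show g = (⟨a, f.left⟩ : H) ^ x * (⟨u, f.right⟩ : H) ^ y from Subtype.ext (by simp [hg])]
      exact mul_mem (pow_mem haK x) (pow_mem h y)
    rw [htop, index_top] at hi
    omega
  have hu2 : (⟨u, f.right⟩ : H) ^ 2 ∈ K := sq_mem_of_index_two hi _
  have hiff : ∀ x y : ℕ, (⟨a, f.left⟩ : H) ^ x * (⟨u, f.right⟩ : H) ^ y ∈ K ↔ Even y := by
    intro x y
    rw [mul_mem_cancel_left (pow_mem haK x)]
    rcases Nat.even_or_odd y with ⟨r, rfl⟩ | ⟨r, rfl⟩
    · rw [← two_mul, pow_mul]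
      exact iff_of_true (pow_mem hu2 r) (even_two_mul r)
    · rw [pow_succ, pow_mul, mul_mem_cancel_left (pow_mem hu2 r)]
      simp [hu, parity_simps]
  have hKe : closure {a, u ^ 2} = K.map H.subtype := by
    refine le_antisymm ((closure_le _).2 ?_) ?_
    · rintro g (rfl | rfl)
      · exact ⟨_, haK, rfl⟩
      · exact ⟨_, hu2, rfl⟩
    · rintro _ ⟨g, hg, rfl⟩
      obtain ⟨x, y, hg'⟩ := f.gen g g.2
      have hy : Even y := (hiff x y).1 (by
        rwa [← show g = (⟨a, f.left⟩ : H) ^ x * (⟨u, f.right⟩ : H) ^ y from Subtype.ext (by simp [hg'])])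
      obtain ⟨r, rfl⟩ := hy
      show (g : G) ∈ _
      rw [hg', ← two_mul, pow_mul]
      exact mul_mem (pow_mem (subset_closure (by simp)) x) (pow_mem (subset_closure (by simp)) r)
  have hmem : ∀ x y : ℕ, a ^ x * u ^ y ∈ closure {a, u ^ 2} ↔ Even y := fun x y => by
    rw [hKe, ← hiff x y, show a ^ x * u ^ y =
      H.subtype ((⟨a, f.left⟩ : H) ^ x * (⟨u, f.right⟩ : H) ^ y) from rfl,
      mem_map_iff_mem H.subtype_injective]
  refine ⟨⟨f.ha, ?_, ?_, subset_closure (by simp), subset_closure (by simp), fun g hg => ?_⟩, hmem, ?_⟩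
  · rw [orderOf_pow_of_dvd two_ne_zero (by rw [f.hu]; exact dvd_pow_self 2 (by omega)), f.hu, pow_succ,
      Nat.mul_div_cancel _ two_pos]
  · rw [hKe, Nat.card_congr (K.equivMapOfInjective _ H.subtype_injective).toEquiv.symm, hK]
  · obtain ⟨x, y, rfl⟩ := f.gen g (by rw [hKe] at hg; exact map_subtype_le _ hg)
    obtain ⟨r, rfl⟩ := (hmem x y).1 hg
    exact ⟨x, r, by rw [← two_mul, pow_mul]⟩
  · intro g hg m hm
    rw [hKe] at hm ⊢
    obtain ⟨m, hm, rfl⟩ := hm
    exact ⟨⟨g, hg⟩ * m * ⟨g, hg⟩⁻¹, (normal_of_index_eq_two hi).conj_mem m hm _, rfl⟩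

/-- The products of the powers. -/
theorem Fac.sub (f : Fac H a u α β) {k l : ℕ} (hk : k ≤ α) (hl : l ≤ β) :
    Fac (closure {a ^ 2 ^ k, u ^ 2 ^ l}) (a ^ 2 ^ k) (u ^ 2 ^ l) (α - k) (β - l) ∧
      closure {a ^ 2 ^ k, u ^ 2 ^ l} ≤ H := by
  refine ⟨?_, (closure_le _).2 (by rintro g (rfl | rfl); exacts [pow_mem f.left _, pow_mem f.right _])⟩
  induction l with
  | zero =>
    induction k with
    | zero =>
      simp only [pow_zero, pow_one, Nat.sub_zero]
      exact f.eq_closure ▸ f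
    | succ k ih =>
      have h := (ih (by omega)).symm
      rw [show α - k = (α - (k + 1)) + 1 by omega] at h
      have h' := h.half.1.symm
      rw [← pow_mul, ← pow_succ] at h'
      rwa [Set.pair_comm (u ^ 2 ^ 0)] at h'
  | succ l ih =>
    have h := ih (by omega)
    rw [show β - l = (β - (l + 1)) + 1 by omega] at h
    have h' := h.half.1
    rwa [← pow_mul, ← pow_succ] at h'

/-- An element of a smaller product has divisible exponents. -/
theorem Fac.sub_dvd (f : Fac H a u α β) {k l : ℕ} (hk : k ≤ α) (hl : l ≤ β) {x y : ℕ}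
    (h : a ^ x * u ^ y ∈ closure {a ^ 2 ^ k, u ^ 2 ^ l}) : 2 ^ k ∣ x ∧ 2 ^ l ∣ y := by
  obtain ⟨p, q, hpq⟩ := (f.sub hk hl).1.gen _ h
  rw [← pow_mul, ← pow_mul] at hpq
  obtain ⟨h1, h2⟩ := f.uniq hpq
  exact ⟨((h1.of_dvd (pow_dvd_pow 2 hk)).dvd_iff dvd_rfl).2 (dvd_mul_right _ _),
    ((h2.of_dvd (pow_dvd_pow 2 hl)).dvd_iff dvd_rfl).2 (dvd_mul_right _ _)⟩

end Cfsg.Lib.CyclicZ
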