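import Cfsg.Agent.Lib.CyclicZ.Omega

/-!
# Parities of the exponents

The classes modulo `⟨a², u²⟩`, its involutions and its elements of fourth power one.
-/

set_option autoImplicit false
set_option linter.unusedSectionVars false
set_option linter.style.haveILetI false

namespace Cfsg.Lib.CyclicZ

open Subgroup

variable {G : Type*} [Group G] [Finite G] {H : Subgroup G} {a u : G} {α β : ℕ}

theorem Fac.sq_mem' (f : Fac H a u (α + 1) (β + 1)) {g : G} (hg : g ∈ H) : g ^ 2 ∈ closure {a ^ 2, u ^ 2} := by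
  simpa using f.sq_mem hg

theorem Fac.normal' (f : Fac H a u (α + 1) (β + 1)) {g : G} (hg : g ∈ H) {m : G}
    (hm : m ∈ closure {a ^ 2, u ^ 2}) : g * m * g⁻¹ ∈ closure {a ^ 2, u ^ 2} := by
  simpa using f.sub_normal (k := 1) (by omega) (by omega) g hg m (by simpa using hm)

theorem Fac.le' (f : Fac H a u (α + 1) (β + 1)) : closure {a ^ 2, u ^ 2} ≤ H := by
  simpa using (f.sub (k := 1) (l := 1) (by omega) (by omega)).2

theorem Fac.even_iff (f : Fac H a u (α + 1) (β + 1)) {x y : ℕ} :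
    a ^ x * u ^ y ∈ closure {a ^ 2, u ^ 2} ↔ Even x ∧ Even y := by
  refine ⟨fun h => ?_, ?_⟩
  · obtain ⟨h1, h2⟩ := f.sub_dvd (k := 1) (l := 1) (x := x) (y := y) (by omega) (by omega) (by simpa using h)
    exact ⟨even_iff_two_dvd.2 (by simpa using h1), even_iff_two_dvd.2 (by simpa using h2)⟩
  · rintro ⟨⟨p, rfl⟩, ⟨q, rfl⟩⟩
    rw [← two_mul, ← two_mul, pow_mul, pow_mul]
    exact mul_mem (pow_mem (subset_closure (by simp)) p) (pow_mem (subset_closure (by simp)) q)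

/-- Equal parities give the same class. -/
theorem Fac.same_class (f : Fac H a u (α + 1) (β + 1)) {x y x' y' : ℕ} (hx : x % 2 = x' % 2)
    (hy : y % 2 = y' % 2) : (a ^ x * u ^ y)⁻¹ * (a ^ x' * u ^ y') ∈ closure {a ^ 2, u ^ 2} := by
  have key : ∀ {g : G} {n n' : ℕ}, g ^ 2 ∈ closure {a ^ 2, u ^ 2} → n % 2 = n' % 2 →
      (g ^ n)⁻¹ * g ^ n' ∈ closure {a ^ 2, u ^ 2} := by
    intro g n n' hg h
    obtain ⟨k, hk⟩ : ∃ k : ℤ, -(n : ℤ) + n' = (2 : ℕ) * k := ⟨((n' : ℤ) - n) / 2, by omega⟩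
    rw [← zpow_natCast g n, ← zpow_natCast g n', ← zpow_neg, ← zpow_add, hk, zpow_mul, zpow_natCast]
    exact zpow_mem hg k
  rw [show (a ^ x * u ^ y)⁻¹ * (a ^ x' * u ^ y') =
    (u ^ y)⁻¹ * ((a ^ x)⁻¹ * a ^ x') * u ^ y * ((u ^ y)⁻¹ * u ^ y') by group]
  refine mul_mem ?_ (key (g := u) (subset_closure (by simp)) hy)
  have h := f.normal' (inv_mem (pow_mem f.right y)) (key (g := a) (subset_closure (by simp)) hx)
  rwa [inv_inv] at h

/-- The maximal subgroup through `a` has index two. -/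
theorem Fac.half_mul (f : Fac H a u α (β + 1)) {g h : G} (hg : g ∈ H) (hh : h ∈ H) :
    g * h ∈ closure {a, u ^ 2} ↔ (g ∈ closure {a, u ^ 2} ↔ h ∈ closure {a, u ^ 2}) := by
  obtain ⟨-, hm, hn⟩ := f.half
  by_cases h1 : g ∈ closure {a, u ^ 2}
  · rw [mul_mem_cancel_left h1]; simp [h1]
  by_cases h2 : h ∈ closure {a, u ^ 2}
  · rw [mul_mem_cancel_right h2]; simp [h1, h2]
  refine iff_of_true ?_ (iff_of_false h1 h2)
  have key : ∀ g ∈ H, g ∉ closure {a, u ^ 2} → g * u⁻¹ ∈ closure {a, u ^ 2} := by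
    intro g hg h1
    obtain ⟨x, y, rfl⟩ := f.gen g hg
    obtain ⟨r, rfl⟩ := Nat.not_even_iff_odd.1 (fun e => h1 ((hm x y).2 e))
    rw [show a ^ x * u ^ (2 * r + 1) * u⁻¹ = a ^ x * u ^ (2 * r) by simp [pow_succ, mul_assoc]]
    exact (hm x _).2 (even_two_mul r)
  have := mul_mem (mul_mem (key g hg h1) (hn u f.right _ (key h hh h2))) (pow_mem (subset_closure
    (show u ^ 2 ∈ ({a, u ^ 2} : Set G) by simp)) 1)
  rwa [pow_one, show g * u⁻¹ * (u * (h * u⁻¹) * u⁻¹) * u ^ 2 = g * h by rw [pow_two]; group] at this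

/-- The involutions of the Frattini product. -/
theorem Fac.invol_mem (f : Fac H a u (α + 2) (β + 2)) {v : G} (hv : v ∈ closure {a ^ 2, u ^ 2})
    (h2 : v * v = 1) : v = 1 ∨ v = a ^ 2 ^ (α + 1) ∨ v = u ^ 2 ^ (β + 1) ∨
      v = a ^ 2 ^ (α + 1) * u ^ 2 ^ (β + 1) := by
  have hv2 : v ^ 2 = 1 := by rw [pow_two, h2]
  have h := omega_mem _ rfl f hv (by rw [show (4 : ℕ) = 2 * 2 from rfl, pow_mul, hv2, one_pow])
  obtain ⟨r, s, rfl⟩ := (f.sub (k := max α 1) (l := max β 1) (by omega) (by omega)).1.gen _ h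
  obtain ⟨⟨p, hp⟩, ⟨q, hq⟩⟩ := f.invol_abelian hv2
  rw [← pow_mul, ← pow_mul, hp, hq, pow_mul, pow_mul]
  have ha2 : (a ^ 2 ^ (α + 1)) ^ 2 = 1 := by rw [← pow_mul, ← pow_succ]; exact f.ha ▸ pow_orderOf_eq_one a
  have hu2 : (u ^ 2 ^ (β + 1)) ^ 2 = 1 := by rw [← pow_mul, ← pow_succ]; exact f.hu ▸ pow_orderOf_eq_one u
  rcases Nat.even_or_odd p with ⟨p', rfl⟩ | ⟨p', rfl⟩ <;> rcases Nat.even_or_odd q with ⟨q', rfl⟩ | ⟨q', rfl⟩ <;>
    simp [← two_mul, pow_mul, pow_succ _ (2 * _), ha2, hu2]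

/-- The elements of fourth power one of the Frattini product commute. -/
theorem Fac.four_comm (f : Fac H a u (α + 2) (β + 2)) {v w : G} (hv : v ∈ closure {a ^ 2, u ^ 2})
    (hw : w ∈ closure {a ^ 2, u ^ 2}) (hv4 : v ^ 4 = 1) (hw4 : w ^ 4 = 1) : Commute v w := by
  obtain ⟨r, s, rfl⟩ :=
    (f.sub (k := max α 1) (l := max β 1) (by omega) (by omega)).1.gen _ (omega_mem _ rfl f hv hv4)
  obtain ⟨r', s', rfl⟩ :=
    (f.sub (k := max α 1) (l := max β 1) (by omega) (by omega)).1.gen _ (omega_mem _ rfl f hw hw4)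
  have hc := f.comm_four
  exact ((Commute.pow_pow_self _ r r').mul_right (hc.pow_pow r s')).mul_left
    ((hc.symm.pow_pow s r').mul_right (Commute.pow_pow_self _ s s'))

/-- Odd powers of the two generators give the same product. -/
theorem Fac.rescale (f : Fac H a u α β) {p q : ℕ} (hp : Odd p) (hq : Odd q) : Fac H (a ^ p) (u ^ q) α β := by
  have ha : orderOf (a ^ p) = 2 ^ α := by
    rw [Nat.Coprime.orderOf_pow (by rw [f.ha]; exact Nat.Coprime.pow_left _ (Nat.coprime_two_left.2 hp)), f.ha]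
  have hu : orderOf (u ^ q) = 2 ^ β := by
    rw [Nat.Coprime.orderOf_pow (by rw [f.hu]; exact Nat.Coprime.pow_left _ (Nat.coprime_two_left.2 hq)), f.hu]
  obtain ⟨p', hp'⟩ := exists_pow_eq_self_of_coprime (x := a) (n := p)
    (by rw [f.ha]; exact Nat.Coprime.pow_right _ (Nat.coprime_two_right.2 hp))
  obtain ⟨q', hq'⟩ := exists_pow_eq_self_of_coprime (x := u) (n := q)
    (by rw [f.hu]; exact Nat.Coprime.pow_right _ (Nat.coprime_two_right.2 hq))
  refine ⟨ha, hu, f.card, pow_mem f.left p, pow_mem f.right q, fun g hg => ?_⟩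
  obtain ⟨x, y, rfl⟩ := f.gen g hg
  exact ⟨p' * x, q' * y, by rw [pow_mul _ p' x, hp', pow_mul _ q' y, hq']⟩

end Cfsg.Lib.CyclicZ
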